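import Mathlib
import Cfsg.Agent.HexEss.Tools
import Cfsg.Agent.Lib.CoprimeStab
import Cfsg.Agent.TypeL3.Fusion
import Cfsg.Agent.HexGlob.TwoCen

/-!
# The centraliser of `V` in `N / Q C(Q)`, weaker hypotheses

The first lemmas of `HexGlob.TwoCen` (helper137) without the hypotheses on `S / Q`, for use with `|F| = 2`.
-/

set_option autoImplicit false

namespace Cfsg.Agent.HexTwo.Cen0

open Subgroup Cfsg.Agent.HexEss Cfsg.Agent.Lib.GoldschmidtFusion Cfsg.Agent.HexGlob.TwoCen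
open scoped commutatorElement

universe u

variable {G : Type u} [Group G]

/-- the hypotheses -/
structure Cen0 (S N Q W V : Subgroup G) : Prop where
  S_le : S ≤ N
  N_Q : N ≤ normalizer (Q : Set G)
  N_W : N ≤ normalizer (W : Set G)
  N_V : N ≤ normalizer (V : Set G)
  Q_le : Q ≤ S
  W_le : W ≤ Q
  V_le : V ≤ W
  /-- `[Q, Q] ≤ W` -/
  qq : ∀ x ∈ Q, ∀ y ∈ Q, cm x y ∈ W
  /-- `[Q, W] ≤ V` -/
  qw : ∀ x ∈ Q, ∀ y ∈ W, cm x y ∈ V
  /-- `[Q, V] = 1` -/
  qv : ∀ x ∈ Q, ∀ y ∈ V, cm x y = 1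
  /-- `W = [Q, Q] V` -/
  wgen : W ≤ closure {w | ∃ x ∈ Q, ∃ y ∈ Q, w = cm x y} ⊔ V
  /-- `C_S(V) ≤ Q` -/
  sv : ∀ s ∈ S, (∀ v ∈ V, cm s v = 1) → s ∈ Q

variable [Finite G] {S : Sylow 2 G} {N Q W V : Subgroup G}

namespace Cen0

omit [Finite G] in
theorem V_le_Q (h : Cen0 (S : Subgroup G) N Q W V) : V ≤ Q := h.V_le.trans h.W_le

omit [Finite G] in
theorem isPGroup_Q (h : Cen0 (S : Subgroup G) N Q W V) : IsPGroup 2 Q := S.isPGroup'.to_le h.Q_le

/-- a 2-element of `N` centralising `V` lies in `Q` -/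
theorem mem_Q (h : Cen0 (S : Subgroup G) N Q W V) {y : G} (hy : y ∈ N) (hyV : ∀ v ∈ V, cm y v = 1) {i : ℕ}
    (hi : y ^ 2 ^ i = 1) : y ∈ Q := by
  have hzp : IsPGroup 2 (zpowers y) := by
    rintro ⟨x, hx⟩
    obtain ⟨n, rfl⟩ := mem_zpowers_iff.1 hx
    refine ⟨i, Subtype.ext ?_⟩
    change (y ^ n) ^ 2 ^ i = 1
    rw [← zpow_natCast (y ^ n), ← zpow_mul, mul_comm, zpow_mul, zpow_natCast, hi, one_zpow]
  obtain ⟨n, hn, hle⟩ := exists_conj_le_in (p := 2) S.isPGroup' (Cfsg.Agent.TypeL3.sylow_not_dvd_relIndex S h.S_le)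
    (zpowers_le.2 hy) hzp
  have h1 : n * y * n⁻¹ ∈ (S : Subgroup G) := hle ⟨y, mem_zpowers y, by simp⟩
  have h2 : n * y * n⁻¹ ∈ Q := by
    apply h.sv _ h1
    intro v hv
    have h3 := hyV _ (conj_mem_of_le h.N_V (inv_mem hn) hv)
    have h4 := conj_cm n y (n⁻¹ * v * n⁻¹⁻¹)
    rw [h3, mul_one, mul_inv_cancel] at h4
    rw [h4]
    congr 1
    group
  have h3 := conj_mem_of_le h.N_Q (inv_mem hn) h2
  have h4 : n⁻¹ * (n * y * n⁻¹) * n⁻¹⁻¹ = y := by group
  rwa [h4] at h3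

/-- elements of odd order acting trivially on the factors of `1 ≤ V ≤ W ≤ Q` centralise `Q` -/
theorem mem_centralizer (h : Cen0 (S : Subgroup G) N Q W V) {c : G} {j : ℕ} (hj : Odd j) (hc : c ^ j = 1)
    (hcQ : ∀ d ∈ Q, cm c d ∈ W) (hcV : ∀ v ∈ V, cm c v = 1) : c ∈ centralizer (Q : Set G) := by
  have hcN : c ∈ normalizer (Q : Set G) := mem_normalizer_of_cm fun d hd => (h.W_le (hcQ d hd))
  -- `c` acts trivially on `W / V`
  have hcW : ∀ w ∈ W, cm c w ∈ V := by
    have hVQ : ∀ x ∈ Q, ∀ v ∈ V, x * v = v * x := fun x hx v hv => cm_eq_one.1 (h.qv x hx v hv)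
    have key : ∀ w ∈ closure {w | ∃ x ∈ Q, ∃ y ∈ Q, w = cm x y} ⊔ V, w ∈ W ∧ cm c w ∈ V := by
      intro w hw
      have hgen : closure {w | ∃ x ∈ Q, ∃ y ∈ Q, w = cm x y} ⊔ V =
          closure ({w | ∃ x ∈ Q, ∃ y ∈ Q, w = cm x y} ∪ (V : Set G)) := by
        rw [Subgroup.closure_union, Subgroup.closure_eq]
      rw [hgen] at hw
      induction hw using closure_induction with
      | mem w hw =>
        rcases hw with ⟨x, hx, y, hy, rfl⟩ | hw
        · refine ⟨h.qq x hx y hy, ?_⟩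
          -- `c [x, y] c⁻¹ = [w₁ x, w₂ y]`
          have h1 : c * cm x y * c⁻¹ = cm (cm c x * x) (cm c y * y) := by
            rw [conj_cm, ← conj_eq_cm_mul, ← conj_eq_cm_mul]
          have hw1 := hcQ x hx
          have hw2 := hcQ y hy
          have hw1Q := (h.W_le hw1)
          have hw2Q := (h.W_le hw2)
          -- `[w₁ x, w₂ y] = w₁ [x, w₂ y] w₁⁻¹ [w₁, w₂ y]`
          have h2 : cm (cm c x * x) (cm c y * y) =
              (cm c x * cm x (cm c y * y) * (cm c x)⁻¹) * cm (cm c x) (cm c y * y) := by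
            unfold cm; group
          have h3 : cm x (cm c y * y) = cm x (cm c y) * (cm c y * cm x y * (cm c y)⁻¹) := by
            unfold cm; group
          have e1 : cm x (cm c y) ∈ V := h.qw x hx _ hw2
          have e2 : cm (cm c y) (cm x y) ∈ V := by
            have := h.qw _ ((h.W_le (h.qq x hx y hy))) _ hw2
            exact cm_inv_swap_mem this
          have e3 : cm (cm c x) (cm c y * y) ∈ V :=
            cm_inv_swap_mem (h.qw _ (mul_mem hw2Q hy) _ hw1)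
          have e4 : cm (cm c x) (cm x (cm c y * y)) ∈ V :=
            cm_inv_swap_mem (h.qw _ (cm_mem hx (mul_mem hw2Q hy)) _ hw1)
          have h5 : c * cm x y * c⁻¹ = cm (cm c x) (cm x (cm c y * y)) * (cm x (cm c y) *
              (cm (cm c y) (cm x y) * (cm x y * cm (cm c x) (cm c y * y)))) := by
            rw [h1, h2, conj_eq_cm_mul (cm c x) (cm x (cm c y * y))]
            rw [mul_assoc]
            congr 1
            rw [h3, conj_eq_cm_mul (cm c y) (cm x y)]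
            simp only [mul_assoc]
          have h6 : cm x y * cm (cm c x) (cm c y * y) = cm (cm c x) (cm c y * y) * cm x y :=
            hVQ _ (cm_mem hx hy) _ e3
          have h7 : cm c (cm x y) = cm (cm c x) (cm x (cm c y * y)) * (cm x (cm c y) *
              (cm (cm c y) (cm x y) * cm (cm c x) (cm c y * y))) := by
            have h8 : cm c (cm x y) = c * cm x y * c⁻¹ * (cm x y)⁻¹ := rfl
            rw [h8, h5, h6]
            simp only [mul_assoc, mul_inv_cancel, mul_one]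
          rw [h7]
          exact mul_mem e4 (mul_mem e1 (mul_mem e2 e3))
        · exact ⟨h.V_le hw, by rw [hcV w hw]; exact one_mem _⟩
      | one => exact ⟨one_mem _, by unfold cm; simp [one_mem]⟩
      | mul x y _ _ hx hy =>
        refine ⟨mul_mem hx.1 hy.1, ?_⟩
        have h1 : cm c (x * y) = cm c x * (x * cm c y * x⁻¹) := by unfold cm; group
        rw [h1]
        exact mul_mem hx.2 (conj_mem_of_le (h.S_le.trans h.N_V) (h.Q_le ((h.W_le hx.1))) hy.2)
      | inv x _ hx =>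
        refine ⟨inv_mem hx.1, ?_⟩
        have h1 : cm c x⁻¹ = x⁻¹ * (cm c x)⁻¹ * x⁻¹⁻¹ := by unfold cm; group
        rw [h1]
        exact conj_mem_of_le (h.S_le.trans h.N_V) (h.Q_le ((h.W_le (inv_mem hx.1)))) (inv_mem hx.2)
    exact fun w hw => (key w (h.wgen hw)).2
  -- coprimality
  have hodd : Odd (orderOf c) := hj.of_dvd_nat (orderOf_dvd_of_pow_eq_one hc)
  have hcop : ∀ H : Subgroup G, IsPGroup 2 H → (orderOf c).Coprime (Nat.card H) := by
    intro H hH
    obtain ⟨k, hk⟩ := IsPGroup.iff_card.1 hH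
    rw [hk]
    exact (Nat.coprime_two_right.2 hodd).pow_right k
  have hcomW : ∀ w ∈ W, Commute w c := by
    intro w hw
    have h1 : ⁅w, c⁆ ∈ V := by
      have : ⁅w, c⁆ = (cm c w)⁻¹ := by unfold cm; rw [commutatorElement_def]; group
      rw [this]; exact inv_mem (hcW w hw)
    refine Cfsg.Agent.Lib.CoprimeStab.commute_of_commutator_commute (H := V)
      (hcop V (h.isPGroup_Q.to_le h.V_le_Q)) h1 ?_
    exact (cm_eq_one.1 (hcV _ h1)).symm
  rw [mem_centralizer_iff]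
  intro x hx
  have h1 : ⁅x, c⁆ ∈ W := by
    have : ⁅x, c⁆ = (cm c x)⁻¹ := by unfold cm; rw [commutatorElement_def]; group
    rw [this]; exact inv_mem (hcQ x hx)
  exact Cfsg.Agent.Lib.CoprimeStab.commute_of_commutator_commute (H := W)
      (hcop W (h.isPGroup_Q.to_le h.W_le)) h1 (hcomW _ h1)

/-- elements of `N` acting trivially on `Q / W` and on `V` lie in `Q C(Q)` -/
theorem mem_sup (h : Cen0 (S : Subgroup G) N Q W V) {a : G} (ha : a ∈ N) (haQ : ∀ d ∈ Q, cm a d ∈ W)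
    (haV : ∀ v ∈ V, cm a v = 1) : a ∈ Q ⊔ centralizer (Q : Set G) := by
  obtain ⟨i, j, hj, h1, h2⟩ := exists_pow a
  have key : ∀ n : ℕ, (∀ d ∈ Q, cm (a ^ n) d ∈ W) ∧ ∀ v ∈ V, cm (a ^ n) v = 1 := by
    intro n
    induction n with
    | zero => exact ⟨fun d _ => by unfold cm; simp [one_mem], fun d _ => by unfold cm; simp⟩
    | succ n ih =>
      have e : ∀ d, cm (a ^ (n + 1)) d = a ^ n * cm a d * (a ^ n)⁻¹ * cm (a ^ n) d := by
        intro d; unfold cm; group
      refine ⟨fun d hd => ?_, fun v hv => ?_⟩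
      · rw [e]
        exact mul_mem (conj_mem_of_le h.N_W (pow_mem ha n) (haQ d hd)) (ih.1 d hd)
      · rw [e, haV v hv, ih.2 v hv]; group
  have h3 : a ^ j ∈ Q := h.mem_Q (pow_mem ha j) (key j).2 h1
  have h4 : a ^ 2 ^ i ∈ centralizer (Q : Set G) := h.mem_centralizer hj h2 (key _).1 (key _).2
  exact mem_of_pow_mem hj (mem_sup_left h3) (mem_sup_right h4)

end Cen0

end Cfsg.Agent.HexTwo.Cen0
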