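import Mathlib
import Cfsg.Agent.HexGlob.Facts
import Cfsg.Agent.HexEss.Final

/-!
# Characteristic subgroups of a hexagonal 2-group of type `³D₄(q)`, all `q`

`DatT C`: `C` regular and `K / F` of degree three (`q = |F|` arbitrary; used for `q = 2`).
-/

set_option autoImplicit false

namespace Cfsg.Agent.HexTwo.Facts

open Cfsg.Agent.HexRec Cfsg.Agent.HexEss Subgroup Cfsg.Agent.Lib.GoldschmidtFusion Cfsg.Agent.HexGlob.Facts
open Cfsg.Agent.HexGlob
open scoped commutatorElement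

universe u v

variable {F K : Type v} [Field F] [Field K] [Algebra F K] {C : Cubic F K}

/-- regular cubic data of degree three -/
structure DatT (C : Cubic F K) : Prop where
  reg : Reg C
  deg : Module.finrank F K = 3

theorem DatT.fin (hT : DatT C) : FiniteDimensional F K :=
  Module.finite_of_finrank_pos (by rw [hT.deg]; norm_num)

/-- an element orthogonal to `k` and different from zero -/
theorem exists_orth (hT : DatT C) (k : K) : ∃ t : K, t ≠ 0 ∧ C.T t k = 0 := by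
  have := hT.fin
  let φ : K →ₗ[F] F :=
    { toFun := fun t => C.T t k
      map_add' := fun a b => C.T_add_left a b k
      map_smul' := fun f a => by rw [C.T_smul_left]; rfl }
  have h1 : Module.finrank F (LinearMap.ker φ) + Module.finrank F (LinearMap.range φ) = 3 := by
    rw [add_comm, LinearMap.finrank_range_add_finrank_ker, hT.deg]
  have h2 : Module.finrank F (LinearMap.range φ) ≤ 1 := by
    have := Submodule.finrank_le (LinearMap.range φ)
    rwa [Module.finrank_self] at this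
  have h3 : 0 < Module.finrank F (LinearMap.ker φ) := by omega
  obtain ⟨x, hx⟩ := Module.finrank_pos_iff_exists_ne_zero.1 h3
  exact ⟨x, fun h => hx (Subtype.ext h), x.2⟩

/-- every element is a product `t × s` -/
theorem exists_cr (hT : DatT C) (k : K) : ∃ t s : K, t ≠ 0 ∧ C.cr t s = k := by
  obtain ⟨t, ht, hk⟩ := exists_orth hT k
  obtain ⟨s, hs⟩ := exists_cr_eq hT.reg ht hk
  exact ⟨t, s, ht, hs⟩

theorem eq_zero_of_T_sh_add {a b : K} (hT : DatT C) (h : ∀ t, C.T t a + C.T (C.sh t) b = 0) : a = 0 ∧ b = 0 := by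
  have hb : b = 0 := by
    apply C.T_nondeg
    intro k
    obtain ⟨t, s, -, rfl⟩ := exists_cr hT k
    have h1 := h (t + s)
    have h2 := h t
    have h3 := h s
    rw [C.T_add_left, C.sh_add', C.T_add_left, C.T_add_left] at h1
    rw [C.T_comm b]
    linear_combination h1 - h2 - h3
  refine ⟨?_, hb⟩
  apply C.T_nondeg
  intro t
  have h1 := h t
  rw [hb, C.T_zero_right, add_zero] at h1
  rw [C.T_comm]; exact h1

section

variable {G : Type u} [Group G] {P : Subgroup G} {co : Coord C P} [Finite G]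

/-- `E2 = Z₂(P)` -/
theorem mem_E2_of_Z2 (hT : DatT C) {x : G} (hx : x ∈ P) (h : ∀ y ∈ P, cm y x ∈ Z co) : x ∈ E2 co := by
  have h1 : (cx co x).a1 = 0 := mem_F0_of_comm hx (fun y hy => cm_mem_swap.1 (h y hy.1))
  have h6 : (cx co x).a6 = 0 := by
    obtain ⟨y, hy, hyc⟩ := exists_cx (co := co) ⟨1, 0, 0, 0, 0, 0⟩
    have h2 := a5_cm_Da (co := co) hy hx h1
    rw [(h y hy).2.2.2.2.1, hyc] at h2
    rcases smul_eq_zero.1 h2.symm with h3 | h3
    · exact h3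
    · exact absurd h3 one_ne_zero
  have key : ∀ t : K, C.T t (cx co x).a3 + C.T (C.sh t) (cx co x).a5 = 0 := by
    intro t
    obtain ⟨y, hy, hyc⟩ := exists_cx (co := co) ⟨t, 0, 0, 0, 0, 0⟩
    have h2 := a2_cm_R (co := co) hy hx h1 h6
    rw [(h y hy).2.2.1, hyc] at h2
    exact h2.symm
  obtain ⟨h3, h5⟩ := eq_zero_of_T_sh_add hT key
  exact ⟨hx, h1, h3, h5, h6⟩

theorem cenMod_E2 (hT : DatT C) : cenMod P P (Z co) P_le_normalizer_Z = E2 co := by
  ext x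
  rw [mem_cenMod]
  constructor
  · rintro ⟨hx, h⟩
    exact mem_E2_of_Z2 hT hx (fun y hy => cm_mem_swap.1 (h y hy))
  · intro hx
    exact ⟨hx.1, fun y hy => cm_mem_swap.1 (cm_mem_Z hy hx)⟩

/-- `RR = P'` -/
theorem RR_eq (hT : DatT C) : Subgroup.closure {z : G | ∃ g ∈ P, ∃ h ∈ P, cm g h = z} = RR co := by
  set D := Subgroup.closure {z : G | ∃ g ∈ P, ∃ h ∈ P, cm g h = z} with hDdef
  have hcm : ∀ g ∈ P, ∀ h ∈ P, cm g h ∈ D := fun g hg h hh => subset_closure ⟨g, hg, h, hh, rfl⟩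
  have hDR : D ≤ RR co := by
    rw [hDdef, closure_le]
    rintro _ ⟨g, hg, h, hh, rfl⟩
    exact cm_mem_RR hg hh
  apply le_antisymm hDR
  -- `Z ≤ D`
  have hZ : Z co ≤ D := by
    intro z hz
    obtain ⟨k, hk⟩ := C.exists_T_eq (one_ne_zero (α := K)) (cx co z).a4
    obtain ⟨x, hx, hxc⟩ := exists_cx (co := co) ⟨0, 0, 0, 0, 1, 0⟩
    obtain ⟨y, hy, hyc⟩ := exists_cx (co := co) ⟨0, 0, k, 0, 0, 0⟩
    have hx' : x ∈ Da co := ⟨hx, by rw [hxc]⟩
    have hy' : y ∈ Da co := ⟨hy, by rw [hyc]⟩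
    have h1 := cm_mem_Z_of_Da hx' hy'
    have : cm x y = z := by
      apply cx_inj (co := co) h1.1 hz.1
      refine Tup.ext ?_ ?_ ?_ ?_ ?_ ?_
      · rw [h1.2.1, hz.2.1]
      · rw [h1.2.2.1, hz.2.2.1]
      · rw [h1.2.2.2.1, hz.2.2.2.1]
      · rw [a4_cm_Da_Da hx hy hx'.2 hy'.2, hxc, hyc]
        simpa [C.T_zero_left, C.T_zero_right] using hk
      · rw [h1.2.2.2.2.1, hz.2.2.2.2.1]
      · rw [h1.2.2.2.2.2, hz.2.2.2.2.2]
    rw [← this]
    exact hcm _ hx _ hy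
  -- elements of `E2`
  have hE : E2 co ≤ D := by
    intro z hz
    obtain ⟨k, hk⟩ := C.exists_T_eq (one_ne_zero (α := K)) (cx co z).a2
    obtain ⟨x, hx, hxc⟩ := exists_cx (co := co) ⟨1, 0, 0, 0, 0, 0⟩
    obtain ⟨y, hy, hyc⟩ := exists_cx (co := co) ⟨0, 0, k, 0, 0, 0⟩
    have hy' : y ∈ F0 co := ⟨hy, by rw [hyc], by rw [hyc], by rw [hyc]⟩
    have h1 := cm_mem_E2 (co := co) hx hy'
    have h2 : (cm x y)⁻¹ * z ∈ Z co := by
      have h3 : (cm x y)⁻¹ * z ∈ E2 co := mul_mem (inv_mem h1) hz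
      refine ⟨h3.1, h3.2.1, ?_, h3.2.2.1, h3.2.2.2.1, h3.2.2.2.2⟩
      have h4 := a2_mul (co := co) h1.1 h3.1
      rw [mul_inv_cancel_left, h3.2.1, C.T_zero_left, C.sh_zero, C.T_zero_left, C.N_zero, mul_zero,
        add_zero, add_zero, add_zero, a2_cm_F0 hx hy hy'.2.1 hy'.2.2.1 hy'.2.2.2, hxc, hyc, hk] at h4
      simpa using h4
    have := mul_mem (hcm _ hx _ hy) (hZ h2)
    simpa using this
  -- the coordinates `(a3, a5)` of elements of `D`
  have red : ∀ x ∈ RR co, ∀ d ∈ D, (cx co d).a3 = (cx co x).a3 → (cx co d).a5 = (cx co x).a5 → x ∈ D := by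
    intro x hx d hd h3 h5
    have hdR : d ∈ RR co := hDR hd
    have h6 : d⁻¹ * x ∈ E2 co := by
      have h7 : d⁻¹ * x ∈ RR co := mul_mem (inv_mem hdR) hx
      have h8 := a5_mul (co := co) hdR.1 h7.1
      rw [mul_inv_cancel_left, hdR.2.2, zero_smul, add_zero, h5] at h8
      have h9 := a3_mul (co := co) hdR.1 h7.1
      rw [mul_inv_cancel_left, hdR.2.2, zero_smul, add_zero, h7.2.1, C.cr_zero_left, add_zero, h3] at h9
      exact ⟨h7.1, h7.2.1, by simpa using h9, by simpa using h8, h7.2.2⟩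
    have := mul_mem hd (hE h6)
    simpa using this
  -- `[x1(t), x6(u)]` has coordinates `a3 = u t#`, `a5 = u t`
  have h16 : ∀ (t : K) (u : F), ∃ d ∈ D, (cx co d).a1 = 0 ∧ (cx co d).a6 = 0 ∧ (cx co d).a3 = u • C.sh t ∧
      (cx co d).a5 = u • t := by
    intro t u
    obtain ⟨x, hx, hxc⟩ := exists_cx (co := co) ⟨t, 0, 0, 0, 0, 0⟩
    obtain ⟨y, hy, hyc⟩ := exists_cx (co := co) ⟨0, 0, 0, 0, 0, u⟩
    have hy1 : (cx co y).a1 = 0 := by rw [hyc]
    refine ⟨cm x y, hcm _ hx _ hy, a1_cm hx hy, a6_cm hx hy, ?_, ?_⟩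
    · rw [a3_cm_Da hx hy hy1, hxc, hyc, C.cr_zero_right, add_zero]
    · rw [a5_cm_Da hx hy hy1, hxc, hyc]
  have hprod : ∀ d e : G, d ∈ P → e ∈ P → (cx co d).a1 = 0 → (cx co d).a6 = 0 → (cx co e).a1 = 0 →
      (cx co e).a6 = 0 → (cx co (d * e)).a1 = 0 ∧ (cx co (d * e)).a6 = 0 ∧
      (cx co (d * e)).a3 = (cx co d).a3 + (cx co e).a3 ∧ (cx co (d * e)).a5 = (cx co d).a5 + (cx co e).a5 := by
    intro d e hd he d1 d6 e1 e6
    refine ⟨?_, ?_, ?_, ?_⟩
    · rw [a1_mul hd he, d1, e1, add_zero]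
    · rw [a6_mul hd he, d6, e6, add_zero]
    · rw [a3_mul hd he, d6, e1, zero_smul, C.cr_zero_left, add_zero, add_zero]
    · rw [a5_mul hd he, d6, zero_smul, add_zero]
  have hDP : D ≤ P := hDR.trans RR_le
  -- `U3`
  have h3 : ∀ k : K, ∃ d ∈ D, (cx co d).a1 = 0 ∧ (cx co d).a6 = 0 ∧ (cx co d).a3 = k ∧ (cx co d).a5 = 0 := by
    intro k
    obtain ⟨t, s, -, rfl⟩ := exists_cr hT k
    obtain ⟨x, hx, hxc⟩ := exists_cx (co := co) ⟨t, 0, 0, 0, 0, 0⟩
    obtain ⟨y, hy, hyc⟩ := exists_cx (co := co) ⟨0, 0, 0, 0, s, 0⟩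
    have hy1 : (cx co y).a1 = 0 := by rw [hyc]
    refine ⟨cm x y, hcm _ hx _ hy, a1_cm hx hy, a6_cm hx hy, ?_, ?_⟩
    · rw [a3_cm_Da hx hy hy1, hxc, hyc, zero_smul, zero_add]
    · rw [a5_cm_Da hx hy hy1, hyc, zero_smul]
  intro x hx
  obtain ⟨d, hd, d1, d6, d3, d5⟩ := h16 (cx co x).a5 1
  obtain ⟨e, he, e1, e6, e3, e5⟩ := h3 ((cx co x).a3 + C.sh (cx co x).a5)
  obtain ⟨p1, p6, p3, p5⟩ := hprod d e (hDP hd) (hDP he) d1 d6 e1 e6
  refine red x hx (d * e) (mul_mem hd he) ?_ ?_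
  · rw [p3, d3, e3, one_smul]
    have := charPK C
    linear_combination C.sh (cx co x).a5 * C.two_K
  · rw [p5, d5, e5, one_smul, add_zero]

/-- `Z ≤ P'` -/
theorem Z_le_commutator (hT : DatT C) : Z co ≤ ⁅P, P⁆ := by
  refine Z_le_RR.trans ?_
  rw [← RR_eq (co := co) hT, closure_le]
  rintro _ ⟨g, hg, h, hh, rfl⟩
  exact commutator_mem_commutator hg hh

/-! ### normalizers -/

theorem le_normalizer_E2_of_P (hT : DatT C) {N : Subgroup G} (hN : N ≤ normalizer (P : Set G)) :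
    N ≤ normalizer ((E2 co : Subgroup G) : Set G) := by
  rw [← cenMod_E2 (co := co) hT]
  exact le_normalizer_cenMod hN hN (le_normalizer_Z_of_P hN)

theorem le_normalizer_Db_of_P (hT : DatT C) {N : Subgroup G} (hN : N ≤ normalizer (P : Set G)) :
    N ≤ normalizer ((Db co : Subgroup G) : Set G) := by
  rw [← cenMod_Db (co := co)]
  exact le_normalizer_cenMod hN (le_normalizer_E2_of_P hT hN) (Step4.le_normalizer_bot N)

theorem le_normalizer_RR_of_P (hT : DatT C) {N : Subgroup G} (hN : N ≤ normalizer (P : Set G)) :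
    N ≤ normalizer ((RR co : Subgroup G) : Set G) := by
  rw [← RR_eq (co := co) hT]
  refine le_normalizer_closure ?_
  rintro n hn _ ⟨g, hg, h, hh, rfl⟩
  exact ⟨n * g * n⁻¹, conj_mem_of_le hN hn hg, n * h * n⁻¹, conj_mem_of_le hN hn hh,
    (conj_cm n g h).symm⟩

theorem le_normalizer_Da_of_P (hT : DatT C) {N : Subgroup G} (hN : N ≤ normalizer (P : Set G)) :
    N ≤ normalizer ((Da co : Subgroup G) : Set G) := by
  rw [← cenMod_Da (co := co)]
  exact le_normalizer_cenMod hN (le_normalizer_RR_of_P hT hN) (le_normalizer_Z_of_P hN)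

/-- `W = [Db, Db]` -/
theorem F0_eq (hT : DatT C) : Subgroup.closure {z : G | ∃ g ∈ Db co, ∃ h ∈ Db co, cm g h = z} = F0 co := by
  set D := Subgroup.closure {z : G | ∃ g ∈ Db co, ∃ h ∈ Db co, cm g h = z} with hDdef
  have hcm : ∀ g ∈ Db co, ∀ h ∈ Db co, cm g h ∈ D := fun g hg h hh => subset_closure ⟨g, hg, h, hh, rfl⟩
  have hDF : D ≤ F0 co := by
    rw [hDdef, closure_le]
    rintro _ ⟨g, hg, h, hh, rfl⟩
    exact cm_mem_F0_of_Db hg hh
  apply le_antisymm hDF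
  -- `Z ≤ D`
  have hZ : Z co ≤ D := by
    intro z hz
    obtain ⟨k, hk⟩ := C.exists_T_eq (one_ne_zero (α := K)) (cx co z).a4
    obtain ⟨x, hx, hxc⟩ := exists_cx (co := co) ⟨0, 0, 0, 0, 1, 0⟩
    obtain ⟨y, hy, hyc⟩ := exists_cx (co := co) ⟨0, 0, k, 0, 0, 0⟩
    have hx' : x ∈ Da co := ⟨hx, by rw [hxc]⟩
    have hy' : y ∈ Da co := ⟨hy, by rw [hyc]⟩
    have h1 := cm_mem_Z_of_Da hx' hy'
    have : cm x y = z := by
      apply cx_inj (co := co) h1.1 hz.1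
      refine Tup.ext ?_ ?_ ?_ ?_ ?_ ?_
      · rw [h1.2.1, hz.2.1]
      · rw [h1.2.2.1, hz.2.2.1]
      · rw [h1.2.2.2.1, hz.2.2.2.1]
      · rw [a4_cm_Da_Da hx hy hx'.2 hy'.2, hxc, hyc]
        simpa [C.T_zero_left, C.T_zero_right] using hk
      · rw [h1.2.2.2.2.1, hz.2.2.2.2.1]
      · rw [h1.2.2.2.2.2, hz.2.2.2.2.2]
    rw [← this]
    exact hcm _ ⟨hx, by rw [hxc]⟩ _ ⟨hy, by rw [hyc]⟩
  have hE : E2 co ≤ D := by
    intro z hz
    obtain ⟨k, hk⟩ := C.exists_T_eq (one_ne_zero (α := K)) (cx co z).a2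
    obtain ⟨x, hx, hxc⟩ := exists_cx (co := co) ⟨1, 0, 0, 0, 0, 0⟩
    obtain ⟨y, hy, hyc⟩ := exists_cx (co := co) ⟨0, 0, k, 0, 0, 0⟩
    have hy' : y ∈ F0 co := ⟨hy, by rw [hyc], by rw [hyc], by rw [hyc]⟩
    have h1 := cm_mem_E2 (co := co) hx hy'
    have h2 : (cm x y)⁻¹ * z ∈ Z co := by
      have h3 : (cm x y)⁻¹ * z ∈ E2 co := mul_mem (inv_mem h1) hz
      refine ⟨h3.1, h3.2.1, ?_, h3.2.2.1, h3.2.2.2.1, h3.2.2.2.2⟩
      have h4 := a2_mul (co := co) h1.1 h3.1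
      rw [mul_inv_cancel_left, h3.2.1, C.T_zero_left, C.sh_zero, C.T_zero_left, C.N_zero, mul_zero,
        add_zero, add_zero, add_zero, a2_cm_F0 hx hy hy'.2.1 hy'.2.2.1 hy'.2.2.2, hxc, hyc, hk] at h4
      simpa using h4
    have := mul_mem (hcm _ ⟨hx, by rw [hxc]⟩ _ (F0_le_Db hy')) (hZ h2)
    simpa using this
  intro x hx
  obtain ⟨t, s, -, hts⟩ := exists_cr hT (cx co x).a3
  obtain ⟨a, ha, hac⟩ := exists_cx (co := co) ⟨t, 0, 0, 0, 0, 0⟩
  obtain ⟨b, hb, hbc⟩ := exists_cx (co := co) ⟨0, 0, 0, 0, s, 0⟩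
  have ha' : a ∈ Db co := ⟨ha, by rw [hac]⟩
  have hb' : b ∈ Db co := ⟨hb, by rw [hbc]⟩
  have hd : cm a b ∈ D := hcm _ ha' _ hb'
  have hdF := hDF hd
  have h3 : (cx co (cm a b)).a3 = (cx co x).a3 := by
    rw [a3_cm_Db ha hb ha'.2 hb'.2, hac, hbc]
    simp only [C.cr_zero_left, add_zero]
    exact hts
  have h6 : (cm a b)⁻¹ * x ∈ E2 co := by
    have h7 : (cm a b)⁻¹ * x ∈ F0 co := mul_mem (inv_mem hdF) hx
    have h9 := a3_mul (co := co) hdF.1 h7.1
    rw [mul_inv_cancel_left, hdF.2.2.2, zero_smul, add_zero, h7.2.1, C.cr_zero_left, add_zero, h3] at h9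
    exact ⟨h7.1, h7.2.1, by simpa using h9, h7.2.2.1, h7.2.2.2⟩
  have := mul_mem hd (hE h6)
  simpa using this

theorem le_normalizer_F0_of_Db (hT : DatT C) {N : Subgroup G}
    (hN : N ≤ normalizer ((Db co : Subgroup G) : Set G)) : N ≤ normalizer ((F0 co : Subgroup G) : Set G) := by
  rw [← F0_eq (co := co) hT]
  refine le_normalizer_closure ?_
  rintro n hn _ ⟨g, hg, h, hh, rfl⟩
  exact ⟨n * g * n⁻¹, conj_mem_of_le hN hn hg, n * h * n⁻¹, conj_mem_of_le hN hn hh,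
    (conj_cm n g h).symm⟩

end

/-- the essential subgroups (all `q`) -/
theorem DatT.hEss (hT : DatT C) : HEss.{u} C := by
  intro X _ _ S co D hD
  have := Abel.finite_F co
  have := Abel.finite_K co
  have := hT.fin
  have h4 : 1 < Nat.card F := Finite.one_lt_card
  have hcard : Nat.card K = Nat.card F ^ 3 := by
    rw [Module.natCard_eq_pow_finrank (K := F) (V := K), hT.deg]
  refine HexEss.Final.eq_Da_or_eq_Db co hT.reg ?_ (Or.inr ?_) hD
  · rw [hcard]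
    calc 2 < 2 ^ 3 := by norm_num
      _ ≤ Nat.card F ^ 3 := Nat.pow_le_pow_left h4 3
  · rw [hcard]
    exact Nat.pow_lt_pow_right h4 (by norm_num)

end Cfsg.Agent.HexTwo.Facts
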