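import Cfsg.Agent.HexGlob.EssBoth
import Cfsg.Agent.HexTwo.Facts

/-!
# Both `Da` and `Db` are essential: type `³D₄(q)`, all `q`
-/

set_option autoImplicit false

namespace Cfsg.Agent.HexTwo.EssBoth

open Cfsg.Agent.HexRec Cfsg.Agent.HexEss Subgroup Cfsg.Agent.Lib.GoldschmidtFusion Cfsg.Agent.Lib
open Cfsg.Agent.TypeL3 Cfsg.Agent.HexGlob.Facts Cfsg.Agent.HexGlob Cfsg.Agent.HexTwo.Facts
open Cfsg.Agent.HexGlob.EssBoth

universe u v

variable {F K : Type v} [Field F] [Field K] [Algebra F K] {C : Cubic F K}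
variable {G : Type u} [Group G] [Finite G] {S : Sylow 2 G}

variable (h1169 : H1169.{u}) [IsSimpleGroup G] (hT : DatT C) (co : Coord C (S : Subgroup G))

include h1169 hT

/-- `N(Da)` does not normalise `E2` -/
theorem not_le_normalizer_E2 :
    ¬ normalizer ((Da co : Subgroup G) : Set G) ≤ normalizer ((E2 co : Subgroup G) : Set G) := by
  intro h
  have hcl : Cfsg.IsStronglyClosed (E2 co) (S : Subgroup G) := by
    refine closed_of_gen E2_le (fun B g hB hg => gen hT.hEss S co hB hg) ?_
    rintro X (rfl | rfl | rfl)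
    · exact Facts.le_normalizer_E2_of_P hT le_rfl
    · exact h
    · exact le_normalizer_E2_of_Db le_rfl
  refine not_closed h1169 co hcl (fun h0 => Z_ne_bot co ?_) le_rfl
  exact le_bot_iff.1 (h0 ▸ Z_le_E2)

/-- `N(Db)` does not normalise `Z` -/
theorem not_le_normalizer_Z :
    ¬ normalizer ((Db co : Subgroup G) : Set G) ≤ normalizer ((Z co : Subgroup G) : Set G) := by
  intro h
  have hcl : Cfsg.IsStronglyClosed (Z co) (S : Subgroup G) := by
    refine closed_of_gen Z_le (fun B g hB hg => gen hT.hEss S co hB hg) ?_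
    rintro X (rfl | rfl | rfl)
    · exact nS_Z
    · exact le_normalizer_Z_of_Da le_rfl
    · exact h
  exact not_closed h1169 co hcl (Z_ne_bot co) Z_le_E2

/-- `Da` is essential -/
theorem ess_Da : EssDefs.Ess 2 (S : Subgroup G) (Da co) := by
  by_contra hcon
  have hcl : Cfsg.IsStronglyClosed (E2 co) (S : Subgroup G) := by
    refine closed_of_gen (Fam := fun X => X = S ∨ X = Db co) E2_le
      (fun B g hB hg => EssBridge.gen_of_conj S _ (Or.inl rfl) (fun X hX => ?_) hB hg) ?_
    · rcases hT.hEss G S co X hX with rfl | rfl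
      · exact absurd hX hcon
      · exact Or.inr rfl
    · rintro X (rfl | rfl)
      · exact Facts.le_normalizer_E2_of_P hT le_rfl
      · exact le_normalizer_E2_of_Db le_rfl
  refine not_closed h1169 co hcl (fun h0 => Z_ne_bot co ?_) le_rfl
  exact le_bot_iff.1 (h0 ▸ Z_le_E2)

/-- `Db` is essential -/
theorem ess_Db : EssDefs.Ess 2 (S : Subgroup G) (Db co) := by
  by_contra hcon
  have hcl : Cfsg.IsStronglyClosed (Z co) (S : Subgroup G) := by
    refine closed_of_gen (Fam := fun X => X = S ∨ X = Da co) Z_le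
      (fun B g hB hg => EssBridge.gen_of_conj S _ (Or.inl rfl) (fun X hX => ?_) hB hg) ?_
    · rcases hT.hEss G S co X hX with rfl | rfl
      · exact Or.inr rfl
      · exact absurd hX hcon
    · rintro X (rfl | rfl)
      · exact nS_Z
      · exact le_normalizer_Z_of_Da le_rfl
  exact not_closed h1169 co hcl (Z_ne_bot co) Z_le_E2

end Cfsg.Agent.HexTwo.EssBoth
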