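import Mathlib
import Cfsg.Agent.HexGlob.Invol
import Cfsg.Agent.HexGlob.CenUSpec
import Cfsg.Agent.HexTwo.Facts

/-!
# Fusion of involutions for type `³D₄(q)`, all `q`: `OutInv` and `OutFus` (pieces F)

Same proofs as `HexGlob.InvolFus` and the end of `HexGlob.Invol` (helper321), with `DatT C` instead of `Dat C`.
-/

set_option autoImplicit false

namespace Cfsg.Agent.HexTwo.Fus

open Cfsg.Agent.HexRec Cfsg.Agent.HexEss Subgroup Cfsg.Agent.Lib.GoldschmidtFusion Cfsg.Agent.Lib.EssDefs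
open Cfsg.Agent.HexGlob Cfsg.Agent.HexGlob.InvolFus Cfsg.Agent.HexGlob.Invol Cfsg.Agent.HexTwo.Facts

universe u v

variable {F K : Type v} [Field F] [Field K] [Algebra F K] {C : Cubic F K}
variable {G : Type u} [Group G] [Finite G] {S : Sylow 2 G} {co : Coord C (S : Subgroup G)}

/-- `D0 ∩ Db = V#` -/
theorem E2_of_D0' (h1 : Out1 S co) (hT : DatT C) {x : G} (hx : x ∈ D0 co) (hxb : x ∈ Db co) : x ∈ E2 co := by
  have hxa := D0_le_Da hx
  obtain ⟨n, hn, v, hv, -, rfl⟩ := hx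
  obtain ⟨l, hl, m, hm, rfl⟩ := exists_L1_mul hn
  have hv' : m * v * m⁻¹ ∈ E2 co := conj_mem_of_le (Facts.le_normalizer_E2_of_P hT le_rfl) hm hv
  have e : l * m * v * (l * m)⁻¹ = l * (m * v * m⁻¹) * l⁻¹ := by group
  rw [e] at hxa hxb ⊢
  by_cases hlV : l ∈ normalizer ((E2 co : Subgroup G) : Set G)
  · exact conj_mem_of_le le_rfl hlV hv'
  · have hz := h1.f1 l hl hlV _ hv' ⟨hxa.1, hxa.2, hxb.2⟩
    rw [h1.cent l hl _ hz, mul_inv_cancel_right]
    exact hv'

/-- `D0` is a union of fusion classes of `S` -/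
theorem D0_fusion' (hE : HEss.{u, v} C) (h1 : Out1 S co) (hT : DatT C) {x g : G} (hx : x ∈ (S : Subgroup G))
    (hg : g * x * g⁻¹ ∈ (S : Subgroup G)) : g * x * g⁻¹ ∈ D0 co ↔ x ∈ D0 co := by
  have hgen := Lib.EssBridge.gen_of_conj S (fun X => X = (S : Subgroup G) ∨ X = Da co ∨ X = Db co) (Or.inl rfl)
    (fun X hX => by
      rcases hE G S co X hX with h | h
      · exact Or.inr (Or.inl h)
      · exact Or.inr (Or.inr h)) (zpowers_le.2 hx) (zpowers_map_conj_le (P := (S : Subgroup G)) hg)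
  have key : ∀ X : Subgroup G, (X = (S : Subgroup G) ∨ X = Da co ∨ X = Db co) → ∀ g ∈ normalizer (X : Set G),
      ∀ x ∈ X, x ∈ D0 co → g * x * g⁻¹ ∈ D0 co := by
    rintro X hX g hg x hx hxD
    have hTa : ∀ g ∈ normalizer ((Da co : Subgroup G) : Set G), g * x * g⁻¹ ∈ D0 co := by
      intro g hg
      obtain ⟨n, hn, v, hv, hv1, rfl⟩ := hxD
      exact ⟨g * n, mul_mem hg hn, v, hv, hv1, by group⟩
    rcases hX with rfl | rfl | rfl
    · exact hTa g ((Facts.le_normalizer_Da_of_P hT le_rfl hg))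
    · exact hTa g hg
    · have hxV := E2_of_D0' h1 hT hxD hx
      have hx1 : x ≠ 1 := by
        obtain ⟨n, hn, v, hv, hv1, rfl⟩ := hxD
        intro h
        apply hv1
        have := congrArg (fun t => n⁻¹ * t * n) h
        simpa [mul_assoc] using this
      refine D0_of_E2 (conj_mem_of_le (Facts.le_normalizer_E2_of_Db le_rfl) hg hxV) fun h => hx1 ?_
      have := congrArg (fun t => g⁻¹ * t * g) h
      simpa [mul_assoc] using this
  have hinv := hgen.invariant (fun x => x ∈ D0 co) (fun X _ hX g hg x hx => by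
    apply propext
    constructor
    · intro h
      have h2 := key X hX g⁻¹ (inv_mem hg) (g * x * g⁻¹) (conj_mem_of_le le_rfl hg hx) h
      have e : g⁻¹ * (g * x * g⁻¹) * g⁻¹⁻¹ = x := by group
      rwa [e] at h2
    · exact key X hX g hg x hx) x (mem_zpowers x)
  exact iff_of_eq hinv

/-- the elements of `S` conjugate to an element of `V#` are those of `D0` -/
theorem D0_of_conj' (hE : HEss.{u, v} C) (h1 : Out1 S co) (hT : DatT C) {v g : G} (hv : v ∈ E2 co) (hv1 : v ≠ 1)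
    (hg : g * v * g⁻¹ ∈ (S : Subgroup G)) : g * v * g⁻¹ ∈ D0 co :=
  (D0_fusion' hE h1 hT hv.1 hg).2 (D0_of_E2 hv hv1)

/-- a conjugate in `Db` of an element of `V` is in `V` -/
theorem E2_of_conj' (hE : HEss.{u, v} C) (h1 : Out1 S co) (hT : DatT C) {v g : G} (hv : v ∈ E2 co)
    (hg : g * v * g⁻¹ ∈ Db co) : g * v * g⁻¹ ∈ E2 co := by
  by_cases hv1 : v = 1
  · rw [hv1]; simp [one_mem]
  · exact E2_of_D0' h1 hT (D0_of_conj' hE h1 hT hv hv1 hg.1) hg

/-- no element of `W - V` is conjugate to an element of `V` -/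
theorem F0_not_conj' (hE : HEss.{u, v} C) (h1 : Out1 S co) (hT : DatT C) {w v g : G} (hw : w ∈ F0 co)
    (hwV : w ∉ E2 co) (hv : v ∈ E2 co) : g * v * g⁻¹ ≠ w := by
  rintro rfl
  exact hwV (E2_of_conj' hE h1 hT hv (F0_le_Db hw))

/-- **piece F** -/
theorem outInv' (hT : DatT C) (hE : HEss.{u, v} C) (h1 : Out1 S co) (h2 : Out2 S co) : OutInv S co where
  conj := by
    intro t ht htt ht1
    obtain ⟨m, hm, h⟩ := exists_conj hT.reg h1 h2 ht htt ht1
    refine ⟨m, sup_le_sup L1_le L2_le hm, ?_⟩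
    rcases h with h | h
    · exact Or.inl h.1
    · exact Or.inr h
  ne := by
    intro z hz _ k hk g
    exact F0_not_conj' hE h1 hT (x3_mem k) (x3_notMem hk) (Z_le_E2 hz)

/-- **(F3)** `C_S(u)` is a Sylow 2-subgroup of `C_G(u)` for `u ∈ W - V` -/
theorem exists_sylow' (hTT : DatT C) (hE : HEss.{u, v} C) (h1 : Out1 S co) {u : G} (hu : u ∈ F0 co)
    (huV : u ∉ E2 co) : ∃ P : Sylow 2 (centralizer ({u} : Set G)),
      (P : Subgroup (centralizer ({u} : Set G))) = (S : Subgroup G).subgroupOf (centralizer {u}) := by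
  have hFfin := Abel.finite_F co
  set H := centralizer ({u} : Set G) with hH
  have hpg : IsPGroup 2 ((S : Subgroup G).subgroupOf H) :=
    S.isPGroup'.comap_of_injective H.subtype H.subtype_injective
  obtain ⟨P, hP⟩ := hpg.exists_le_sylow
  refine ⟨P, ?_⟩
  symm
  apply Subgroup.eq_of_le_of_card_ge hP
  -- move `P` into `S`
  have hP' : IsPGroup 2 ((P : Subgroup H).map H.subtype) := P.isPGroup'.map _
  obtain ⟨T, hT⟩ := hP'.exists_le_sylow
  obtain ⟨g, hg⟩ := MulAction.exists_smul_eq G T S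
  have hgS : ∀ x ∈ (T : Subgroup G), g * x * g⁻¹ ∈ (S : Subgroup G) := by
    intro x hx
    rw [← hg]
    exact Subgroup.smul_mem_pointwise_smul x (MulAut.conj g) _ hx
  have huP : u ∈ (P : Subgroup H).map H.subtype := by
    refine ⟨⟨u, mem_centralizer_singleton_iff.2 rfl⟩, hP ?_, rfl⟩
    rw [mem_subgroupOf]
    exact hu.1
  have hguS : g * u * g⁻¹ ∈ (S : Subgroup G) := hgS u (hT huP)
  have huu := sq_F0 hu
  have hgu : g * u * g⁻¹ * (g * u * g⁻¹) = 1 := by
    have e : g * u * g⁻¹ * (g * u * g⁻¹) = g * (u * u) * g⁻¹ := by group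
    rw [e, huu]; group
  have hguV : g * u * g⁻¹ ∉ E2 co := by
    intro h
    have h3 := F0_not_conj' (g := g⁻¹) hE h1 hTT hu huV h
    apply h3
    group
  have hge := card_ge hTT.reg hguS hgu hguV
  have hle := card_F0 (P := (S : Subgroup G)) hu
  have hcard : Nat.card (P : Subgroup H) ≤ Nat.card ((S : Subgroup G) ⊓ centralizer {g * u * g⁻¹} : Subgroup G) := by
    refine Nat.card_le_card_of_injective
      (fun x => (⟨g * (x : H) * g⁻¹, ?_⟩ : ((S : Subgroup G) ⊓ centralizer {g * u * g⁻¹} : Subgroup G))) ?_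
    · refine mem_inf.2 ⟨hgS _ (hT ⟨x, x.2, rfl⟩), ?_⟩
      rw [mem_centralizer_singleton_iff]
      have h4 : ((x : H) : G) * u = u * ((x : H) : G) := mem_centralizer_singleton_iff.1 (x : H).2
      calc g * ((x : H) : G) * g⁻¹ * (g * u * g⁻¹) = g * (((x : H) : G) * u) * g⁻¹ := by group
        _ = g * u * g⁻¹ * (g * ((x : H) : G) * g⁻¹) := by rw [h4]; group
    · intro x y hxy
      have h4 : g * ((x : H) : G) * g⁻¹ = g * ((y : H) : G) * g⁻¹ := congrArg Subtype.val hxy
      have h5 : ((x : H) : G) = ((y : H) : G) := mul_left_cancel (mul_right_cancel h4)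
      exact Subtype.ext (Subtype.ext h5)
  have e1 : Nat.card ((S : Subgroup G).subgroupOf H) = Nat.card ((S : Subgroup G) ⊓ centralizer {u} : Subgroup G) := by
    rw [Nat.card_congr (Subgroup.equivMapOfInjective _ H.subtype H.subtype_injective).toEquiv,
      Subgroup.subgroupOf_map_subtype]
  rw [e1]
  refine hcard.trans ?_
  have hq : 0 < Nat.card F ^ 2 := pow_pos Nat.card_pos 2
  exact Nat.le_of_mul_le_mul_left (hge.trans hle) hq

/-- `OutFus` -/
theorem outFus (hT : DatT C) (hE : HEss.{u, v} C) (h1 : Out1 S co) : CenUSpec.OutFus S co where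
  fus := by
    intro z hz hz1 g hg
    obtain ⟨n, hn, v, hv, -, h⟩ := D0_of_conj' hE h1 hT (Z_le_E2 hz) hz1 hg
    exact ⟨n, hn, v, hv, h⟩
  syl := fun k hk => exists_sylow' hT hE h1 (x3_mem k) (x3_notMem hk)

/-- `OutNS` -/
theorem outNS (hT : DatT C) : OutNS S co where
  nDa := Facts.le_normalizer_Da_of_P hT le_rfl
  nDb := Facts.le_normalizer_Db_of_P hT le_rfl
  nZ := HexGlob.Facts.le_normalizer_Z_of_P le_rfl
  nE2 := Facts.le_normalizer_E2_of_P hT le_rfl
  nRR := Facts.le_normalizer_RR_of_P hT le_rfl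

end Cfsg.Agent.HexTwo.Fus
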