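import Mathlib
import Cfsg.Agent.HexGlob.OneLinOut
import Cfsg.Agent.HexTwo.Facts

/-!
# The linear group induced on `Da / Z` for `|F| = 2`, `[K : F] = 3`: `LinOut`

`fst_ne_zero`: two different conjugates of `V̄` are not orthogonal.  The sum of all nine conjugates of `v₀` is
`v₀ + Σ_t A(t) y`; if `u(y) = 0`, the sum over `t` vanishes and `v₀` is invariant.
The rest follows `HexGlob.OneLinOut` (helper180).
-/

set_option autoImplicit false

namespace Cfsg.Agent.HexTwo.LinOut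

open Cfsg.Agent.HexRec Cfsg.Agent.HexEss Cfsg.Agent.HexEss.Abel Cfsg.Agent.HexGlob.OneSpec
open Cfsg.Agent.HexGlob.OneLinA Cfsg.Agent.HexGlob.OneLinB Cfsg.Agent.HexGlob.OneLinOut
open Cfsg.Agent.HexTwo.Facts

universe v

variable {F K : Type v} [Field F] [Field K] [Algebra F K] {C : Cubic F K}

theorem eq_one_of_ne (h2 : Nat.card F = 2) {f : F} (hf : f ≠ 0) : f = 1 := by
  classical
  have := Nat.finite_of_card_ne_zero (α := F) (by rw [h2]; norm_num)
  have := Fintype.ofFinite F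
  by_contra h1
  have h3 : ({0, 1, f} : Finset F).card = 3 := by
    rw [Finset.card_insert_of_notMem, Finset.card_insert_of_notMem, Finset.card_singleton]
    · simpa using fun h => h1 h.symm
    · simp only [Finset.mem_insert, Finset.mem_singleton, not_or]
      exact ⟨zero_ne_one, fun h => hf h.symm⟩
  have h4 := Finset.card_le_univ ({0, 1, f} : Finset F)
  rw [Nat.card_eq_fintype_card] at h2
  omega

theorem sum_F [Fintype F] (h2 : Nat.card F = 2) {M : Type*} [AddCommMonoid M] (f : F → M) :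
    ∑ a, f a = f 0 + f 1 := by
  classical
  have h : (Finset.univ : Finset F) = {0, 1} := by
    ext a
    simp only [Finset.mem_univ, Finset.mem_insert, Finset.mem_singleton, true_iff]
    by_cases ha : a = 0
    · exact Or.inl ha
    · exact Or.inr (eq_one_of_ne h2 ha)
  rw [h, Finset.sum_pair zero_ne_one]

/-- summation over `K` with respect to a basis -/
theorem exists_sum [Fintype F] [Fintype K] (h2 : Nat.card F = 2) (h3 : Module.finrank F K = 3) :
    ∃ e1 e2 e3 : K, ∀ (M : Type v) [AddCommMonoid M] (f : K → M), ∑ t, f t =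
      ((f 0 + f e1) + (f e2 + f (e1 + e2))) + ((f e3 + f (e1 + e3)) + (f (e2 + e3) + f (e1 + e2 + e3))) := by
  classical
  have hfd : Module.Finite F K := Module.finite_of_finrank_pos (by rw [h3]; norm_num)
  let b := Module.finBasisOfFinrankEq F K h3
  let E : F × F × F → K := fun x => x.2.2 • b 0 + x.2.1 • b 1 + x.1 • b 2
  have hE : Function.Bijective E := by
    rw [Fintype.bijective_iff_injective_and_card]
    constructor
    · rintro ⟨x1, x2, x3⟩ ⟨y1, y2, y3⟩ h
      have h4 : ∑ i, (![x3 - y3, x2 - y2, x1 - y1] : Fin 3 → F) i • b i = 0 := by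
        rw [Fin.sum_univ_three]
        simp only [Matrix.cons_val_zero, Matrix.cons_val_one, Matrix.cons_val_two, Matrix.head_cons,
          Matrix.tail_cons, sub_smul]
        have h5 : x3 • b 0 + x2 • b 1 + x1 • b 2 = y3 • b 0 + y2 • b 1 + y1 • b 2 := h
        have h6 : x3 • b 0 - y3 • b 0 + (x2 • b 1 - y2 • b 1) + (x1 • b 2 - y1 • b 2) =
            (x3 • b 0 + x2 • b 1 + x1 • b 2) - (y3 • b 0 + y2 • b 1 + y1 • b 2) := by abel
        rw [h5, sub_self] at h6
        exact h6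
      have h5 := Fintype.linearIndependent_iff.1 b.linearIndependent _ h4
      have e0 := h5 0
      have e1 := h5 1
      have e2 := h5 2
      simp only [Matrix.cons_val_zero, Matrix.cons_val_one, Matrix.cons_val_two, Matrix.head_cons,
          Matrix.tail_cons, sub_eq_zero] at e0 e1 e2
      have e0' : x3 = y3 := e0
      have e1' : x2 = y2 := e1
      have e2' : x1 = y1 := e2
      rw [e0', e1', e2']
    · rw [Fintype.card_prod, Fintype.card_prod, ← Nat.card_eq_fintype_card, ← Nat.card_eq_fintype_card (α := K),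
        Module.natCard_eq_pow_finrank (K := F) (V := K), h3, h2]
      norm_num
  refine ⟨b 0, b 1, b 2, fun M _ f => ?_⟩
  rw [← (Equiv.ofBijective E hE).sum_comp f, Fintype.sum_prod_type]
  have key : ∀ x : F, ∑ y : F × F, f ((Equiv.ofBijective E hE) (x, y)) =
      (f (0 • b 0 + 0 • b 1 + x • b 2) + f ((1 : F) • b 0 + (0 : F) • b 1 + x • b 2)) +
      (f (0 • b 0 + (1 : F) • b 1 + x • b 2) + f ((1 : F) • b 0 + (1 : F) • b 1 + x • b 2)) := by
    intro x
    rw [Fintype.sum_prod_type, sum_F h2, sum_F h2, sum_F h2]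
    simp [E, Equiv.ofBijective]
  rw [sum_F h2, key, key]
  simp

section

variable (hT : DatT C)
include hT

theorem fintypes (h2 : Nat.card F = 2) : Finite F ∧ Finite K := by
  have h := hT.fin
  have h1 : Finite F := Nat.finite_of_card_ne_zero (by rw [h2]; norm_num)
  exact ⟨h1, Module.finite_of_finite F⟩

omit hT in
theorem AA_add_apply (a b : K) (w : MM F K) : AA C (a + b) w = AA C b (AA C a w) := by
  rw [add_comm a b, ← AA_mul]; rfl

omit hT in
theorem AA_zero_apply (w : MM F K) : AA C 0 w = w := by rw [AA_zero]; rfl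

omit hT in
/-- the norm kills `{u = 0}` -/
theorem sum_eq_zero [Fintype K] (hT : DatT C) (h2 : Nat.card F = 2) {w : MM F K} (hw : w.1 = 0) :
    ∑ t, AA C t w = 0 := by
  obtain ⟨hF, hK⟩ := fintypes hT h2
  have := Fintype.ofFinite F
  obtain ⟨e1, e2, e3, he⟩ := exists_sum (F := F) (K := K) h2 hT.deg
  rw [he (MM F K) (fun t => AA C t w)]
  simp only [AA_add_apply, AA_zero_apply]
  -- first difference
  have step1 : ∀ (t : K) (w : MM F K), w.1 = 0 → w + AA C t w ∈ Wb F K := by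
    rintro t ⟨u, s, k, v⟩ hu
    simp only at hu
    subst hu
    rw [AA_apply, mem_Wb]
    simp [C.add_selfK]
  have step2 : ∀ (t : K) (w : MM F K), w ∈ Wb F K → w + AA C t w ∈ Vb F K := by
    rintro t ⟨u, s, k, v⟩ hu
    obtain ⟨rfl, rfl⟩ := mk_mem_Wb.1 hu
    rw [AA_apply, mem_Vb]
    simp [C.add_selfK, C.cr_zero_right]
  have step3 : ∀ (t : K) (w : MM F K), w ∈ Vb F K → w + AA C t w = 0 := by
    rintro t ⟨u, s, k, v⟩ hu
    obtain ⟨rfl, rfl, rfl⟩ := mk_mem_Vb.1 hu
    rw [AA_apply]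
    simp [C.add_self, C.cr_zero_right, C.T_zero_right]
  have h3 := step3 e3 _ (step2 e2 _ (step1 e1 w hw))
  rw [← h3]
  simp only [map_add]

variable {R : Subgroup (MM F K ≃ₗ[F] MM F K)}

omit hT in
theorem apply_v0_of_fixV (h2 : Nat.card F = 2) {g : MM F K ≃ₗ[F] MM F K} (hg : FixV g) :
    g (v0 F K) = v0 F K := by
  obtain ⟨c, hc, h⟩ := fixV_iff'.1 hg
  rw [h, eq_one_of_ne h2 hc, one_smul]

/-- two different conjugates of `V̄` are not orthogonal -/
theorem fst_ne_zero (h2 : Nat.card F = 2) (h : Lin C R) {g : MM F K ≃ₗ[F] MM F K}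
    (hg : g ∈ R) (hn : ¬ FixV g) : (g (v0 F K)).1 ≠ 0 := by
  classical
  intro hu
  obtain ⟨hF, hK⟩ := fintypes hT h2
  have := Fintype.ofFinite F
  have := Fintype.ofFinite K
  set y := g (v0 F K) with hy
  have hinj : Function.Injective (fun t : K => AA C t y) := by
    intro t t' htt
    simp only at htt
    have h1 : AA C (t' + t) y = y := by
      rw [AA_add_apply, ← htt, ← AA_add_apply, C.add_selfK, AA_zero]; rfl
    have h3 : FixV (g⁻¹ * AA C (t' + t) * g) := by
      rw [fixV_iff]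
      change g⁻¹ (AA C (t' + t) (g (v0 F K))) ∈ _
      rw [← hy, h1, hy, inv_apply_self]
      exact v0_mem
    have h4 := h.reg g hg hn _ h3
    exact (C.eq_of_add_eq_zeroK h4).symm
  have hv : ∀ t, AA C t y ≠ v0 F K := by
    intro t ht
    apply hn
    rw [fixV_iff, ← hy]
    have h1 : y = AA C t (v0 F K) := by
      rw [← ht, ← AA_add_apply, C.add_selfK, AA_zero]; rfl
    rw [h1, AA_v0]
    exact v0_mem
  let O : Finset (MM F K) := insert (v0 F K) (Finset.univ.image (fun t : K => AA C t y))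
  have hO : ∀ x, x ∈ O ↔ ∃ r ∈ R, x = r (v0 F K) := by
    intro x
    simp only [O, Finset.mem_insert, Finset.mem_image, Finset.mem_univ, true_and]
    constructor
    · rintro (rfl | ⟨t, rfl⟩)
      · exact ⟨1, one_mem _, rfl⟩
      · exact ⟨AA C t * g, mul_mem (h.memA t) hg, rfl⟩
    · rintro ⟨r, hr, rfl⟩
      by_cases hrf : FixV r
      · exact Or.inl (apply_v0_of_fixV h2 hrf)
      · obtain ⟨t, ht⟩ := h.trans g hg r hr hn hrf
        right
        refine ⟨t, ?_⟩
        have h1 := apply_v0_of_fixV h2 ht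
        have h3 : r⁻¹ (AA C t (g (v0 F K))) = v0 F K := h1
        rw [hy, ← apply_inv_self r (AA C t (g (v0 F K))), h3]
  have hsum : ∑ x ∈ O, x = v0 F K := by
    rw [Finset.sum_insert, Finset.sum_image (fun a _ b _ hab => hinj hab), sum_eq_zero hT h2 hu, add_zero]
    simp only [Finset.mem_image, Finset.mem_univ, true_and, not_exists]
    exact hv
  have hOg : O.image g = O := by
    ext x
    rw [Finset.mem_image, hO]
    constructor
    · rintro ⟨x, hx, rfl⟩
      obtain ⟨r, hr, rfl⟩ := (hO x).1 hx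
      exact ⟨g * r, mul_mem hg hr, rfl⟩
    · rintro ⟨r, hr, rfl⟩
      exact ⟨g⁻¹ (r (v0 F K)), (hO _).2 ⟨g⁻¹ * r, mul_mem (inv_mem hg) hr, rfl⟩, apply_inv_self _ _⟩
  have h5 : g (∑ x ∈ O, x) = ∑ x ∈ O, x := by
    rw [map_sum]
    conv_rhs => rw [← hOg]
    rw [Finset.sum_image (fun a _ b _ hab => g.injective hab)]
  rw [hsum] at h5
  apply hn
  rw [fixV_iff, h5]
  exact v0_mem

/-! ### Invariant additive subgroups -/

section inv

variable {B : AddSubgroup (MM F K)}

/-- a nonzero additive subgroup invariant under `T₁` meets `V̄` -/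
theorem exists_mem_v0 (hA : ∀ t, ∀ b ∈ B, AA C t b ∈ B) (hB : B ≠ ⊥) :
    ∃ c : F, c ≠ 0 ∧ ((0, 0, 0, c) : MM F K) ∈ B := by
  have hW : ∀ k v, ((0, 0, k, v) : MM F K) ∈ B → k ≠ 0 → ∃ c : F, c ≠ 0 ∧ ((0, 0, 0, c) : MM F K) ∈ B := by
    intro k v hk hk0
    obtain ⟨t, ht⟩ := C.exists_T_eq hk0 1
    have h1 := comm_mem hA hk t
    rw [comm_eq] at h1
    simp only [C.cr_zero_right, C.T_zero_right, zero_smul, zero_mul, add_zero] at h1
    rw [C.T_comm, ht] at h1
    exact ⟨1, one_ne_zero, h1⟩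
  have hS : ∀ s k v, ((0, s, k, v) : MM F K) ∈ B → s ≠ 0 → ∃ c : F, c ≠ 0 ∧ ((0, 0, 0, c) : MM F K) ∈ B := by
    intro s k v hs hs0
    by_cases hcr : ∃ t, C.cr t s ≠ 0
    · obtain ⟨t, ht⟩ := hcr
      have h1 := comm_mem hA hs t
      rw [comm_eq] at h1
      simp only [zero_smul, zero_mul, add_zero] at h1
      exact hW _ _ h1 ht
    · push Not at hcr
      exfalso
      apply hs0
      apply C.T_nondeg
      intro k
      obtain ⟨t, r, -, rfl⟩ := exists_cr hT k
      have h1 := C.T_cr t r s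
      rw [hcr] at h1
      simp only [C.T_zero_right] at h1
      rw [C.T_comm]
      exact h1
  obtain ⟨w, hw, hw0⟩ : ∃ w ∈ B, w ≠ 0 := by
    by_contra hcon
    push Not at hcon
    exact hB ((AddSubgroup.eq_bot_iff_forall B).2 hcon)
  obtain ⟨u, s, k, v⟩ := w
  by_cases hu : u = 0
  · subst hu
    by_cases hs : s = 0
    · subst hs
      by_cases hk : k = 0
      · subst hk
        refine ⟨v, ?_, hw⟩
        rintro rfl
        exact hw0 rfl
      · exact hW k v hw hk
    · exact hS s k v hw hs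
  · have h1 := comm_mem hA hw 1
    rw [comm_eq] at h1
    exact hS _ _ _ h1 (by simpa using hu)

/-- a nonzero invariant additive subgroup contains an element of `V̄^g` with `u ≠ 0` -/
theorem exists_fst_ne_zero (h2 : Nat.card F = 2) (h : Lin C R) (hinv : ∀ g ∈ R, ∀ b ∈ B, g b ∈ B)
    (hB : B ≠ ⊥) : ∃ b ∈ B, b.1 ≠ 0 := by
  obtain ⟨c, hc, hcB⟩ := exists_mem_v0 hT (fun t b hb => hinv _ (h.memA t) b hb) hB
  obtain ⟨g, hg, hn⟩ := h.ne
  refine ⟨g (0, 0, 0, c), hinv g hg _ hcB, ?_⟩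
  rw [← smul_v0, map_smul]
  exact mul_ne_zero hc (fst_ne_zero hT h2 h hg hn)

theorem f3 (h2 : Nat.card F = 2) (h : Lin C R) (hinv : ∀ g ∈ R, ∀ b ∈ B, g b ∈ B)
    (hB : B ≠ ⊥) (x : MM F K) (hx : ∀ b ∈ B, formA C x b = 0) : x = 0 := by
  by_contra hx0
  let B' : AddSubgroup (MM F K) :=
    { carrier := {x | ∀ b ∈ B, formA C x b = 0}
      add_mem' := by
        intro a a' ha ha' b hb
        rw [map_add, LinearMap.add_apply, ha b hb, ha' b hb, add_zero]
      zero_mem' := by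
        intro b _
        rw [map_zero, LinearMap.zero_apply]
      neg_mem' := by
        intro a ha b hb
        rw [map_neg, LinearMap.neg_apply, ha b hb, neg_zero] }
  have hB' : B' ≠ ⊥ := by
    intro h1
    have h2 : x ∈ B' := hx
    rw [h1, AddSubgroup.mem_bot] at h2
    exact hx0 h2
  have hinv' : ∀ g ∈ R, ∀ b ∈ B', g b ∈ B' := by
    intro g hg a ha b hb
    have h1 := ha (g⁻¹ b) (hinv _ (inv_mem hg) b hb)
    rw [← h.form g hg, apply_inv_self] at h1
    exact h1
  obtain ⟨c, hc, hcB⟩ := exists_mem_v0 hT (fun t b hb => hinv' _ (h.memA t) b hb) hB'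
  obtain ⟨b, hb, hb1⟩ := exists_fst_ne_zero hT h2 h hinv hB
  have h1 := hcB b hb
  rw [← smul_v0, map_smul, LinearMap.smul_apply, v0_formA, smul_eq_mul] at h1
  exact mul_ne_zero hc hb1 h1

theorem f3' (h2 : Nat.card F = 2) (h : Lin C R) (hinv : ∀ g ∈ R, ∀ b ∈ B, g b ∈ B)
    (hB : B ≠ ⊥) (t : K) (ht : ∀ b ∈ B, AA C t b = b) : t = 0 := by
  obtain ⟨⟨u, s, k, v⟩, hb, hb1⟩ := exists_fst_ne_zero hT h2 h hinv hB
  have h1 := ht _ hb
  rw [AA_apply] at h1
  simp only [Prod.mk.injEq, true_and, add_eq_left] at h1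
  exact (smul_eq_zero.1 h1.1).resolve_left hb1

theorem f4 (h2 : Nat.card F = 2) (h : Lin C R)
    (hinv : ∀ g ∈ R, ∀ b ∈ B, g b ∈ B) (hB : B ≠ ⊥) : B = ⊤ := by
  have h3 := hT.deg
  obtain ⟨hF, hK⟩ := fintypes hT h2
  have hA : ∀ t, ∀ b ∈ B, AA C t b ∈ B := fun t b hb => hinv _ (h.memA t) b hb
  obtain ⟨⟨u, s0, k0, w0⟩, hb, hb1⟩ := exists_fst_ne_zero hT h2 h hinv hB
  simp only at hb1
  -- all `s`
  have hS : ∀ s : K, ∃ k v, ((0, s, k, v) : MM F K) ∈ B := by
    intro s
    have h1 := comm_mem hA hb (u⁻¹ • s)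
    rw [comm_eq, smul_smul, mul_inv_cancel₀ hb1, one_smul] at h1
    exact ⟨_, _, h1⟩
  -- all `k`
  have hK : ∀ k : K, ∃ v, ((0, 0, k, v) : MM F K) ∈ B := by
    intro k
    obtain ⟨t, ht, htk⟩ := exists_T_eq_zero h3 C k
    obtain ⟨s, hs⟩ := exists_cr_eq hT.reg ht htk
    obtain ⟨k', v, hm⟩ := hS s
    have h1 := comm_mem hA hm t
    rw [comm_eq, zero_smul, zero_smul, zero_mul, add_zero, add_zero, hs] at h1
    exact ⟨_, h1⟩
  -- all `v`
  have hV : ∀ v : F, ((0, 0, 0, v) : MM F K) ∈ B := by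
    intro v
    obtain ⟨t, ht⟩ := C.exists_T_eq (one_ne_zero (α := K)) v
    obtain ⟨v', hm⟩ := hK 1
    have h1 := comm_mem hA hm t
    rw [comm_eq, C.cr_zero_right, C.T_zero_right, zero_smul, zero_smul, zero_mul, add_zero, add_zero, add_zero,
      C.T_comm, ht] at h1
    exact h1
  have hK' : ∀ (k : K) (v : F), ((0, 0, k, v) : MM F K) ∈ B := by
    intro k v
    obtain ⟨v', hm⟩ := hK k
    have h1 := add_mem hm (hV (v - v'))
    simpa using h1
  have hS' : ∀ (s k : K) (v : F), ((0, s, k, v) : MM F K) ∈ B := by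
    intro s k v
    obtain ⟨k', v', hm⟩ := hS s
    have h1 := add_mem hm (hK' (k - k') (v - v'))
    simpa using h1
  obtain ⟨g, hg, hn⟩ := h.ne
  have hu := fst_ne_zero hT h2 h hg hn
  rw [AddSubgroup.eq_top_iff']
  rintro ⟨a, s, k, v⟩
  obtain ⟨u1, s1, k1, v1, hy⟩ : ∃ u s k v, g (v0 F K) = (u, s, k, v) := ⟨_, _, _, _, rfl⟩
  rw [hy] at hu
  simp only at hu
  have h1 := hinv g hg _ (hV (a / u1))
  rw [← smul_v0, map_smul, hy] at h1
  simp only [Prod.smul_mk, smul_eq_mul, div_mul_cancel₀ _ hu] at h1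
  have h2 := add_mem h1 (hS' (s - (a / u1) • s1) (k - (a / u1) • k1) (v - a / u1 * v1))
  simpa using h2

end inv

/-- **f2**: `W̄ ∩ W̄^g = 0` for `V̄^g ≠ V̄`. -/
theorem f2 (h2 : Nat.card F = 2) (h : Lin C R) {g : MM F K ≃ₗ[F] MM F K} (hg : g ∈ R) (hn : ¬ FixV g)
    {w : MM F K} (hw : w ∈ Wb F K) (hgw : g w ∈ Wb F K) : w = 0 := by
  obtain ⟨hF, hK⟩ := fintypes hT h2
  have hAW : ∀ t : K, ∀ w ∈ Wb F K, AA C t w ∈ Wb F K := fun t => h.norW _ (h.memA t) (fixV_AA t)
  have hu := fst_ne_zero hT h2 h hg hn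
  obtain ⟨u, s, k, v, hy⟩ : ∃ u s k v, g (v0 F K) = (u, s, k, v) := ⟨_, _, _, _, rfl⟩
  rw [hy] at hu
  simp only at hu
  set t : K := u⁻¹ • s with ht
  have hg' : AA C t * g ∈ R := mul_mem (h.memA t) hg
  have hn' : ¬ FixV (AA C t * g) := by
    intro h1
    apply hn
    have h2 := fixV_mul (fixV_AA (C := C) t) h1
    rwa [← mul_assoc, AA_mul_self, one_mul] at h2
  have hv : ∃ κ, (AA C t * g) (v0 F K) = (u, 0, κ, 0) := by
    have h1 := qf_gv0 h hg'
    have e : (AA C t * g) (v0 F K) = AA C t (u, s, k, v) := by rw [← hy]; rfl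
    rw [e, AA_apply] at h1 ⊢
    have e2 : s + u • t = 0 := by
      rw [ht, smul_smul, mul_inv_cancel₀ hu, one_smul, C.add_selfK]
    rw [e2] at h1 ⊢
    rw [qf] at h1
    simp only [C.T_zero_left, add_zero, mul_eq_zero] at h1
    exact ⟨_, by rw [h1.resolve_left hu]⟩
  obtain ⟨κ, hv⟩ := hv
  exact f2_aux h hg' hn' hu hv hw (hAW t _ hgw)

theorem sing (h2 : Nat.card F = 2) (h : Lin C R) (x : MM F K) (hx : qf C x = 0) :
    ∃ g ∈ R, g x ∈ Wb F K := by
  classical
  obtain ⟨hF, hK⟩ := fintypes hT h2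
  by_cases hxW : x ∈ Wb F K
  · exact ⟨1, one_mem _, hxW⟩
  obtain ⟨g, hg, hn⟩ := h.ne
  have hAW : ∀ t : K, ∀ w ∈ Wb F K, AA C t w ∈ Wb F K := fun t => h.norW _ (h.memA t) (fixV_AA t)
  have hAA : ∀ (t : K) (w : MM F K), AA C t (AA C t w) = w := by
    intro t w
    have : AA C t (AA C t w) = (AA C t * AA C t) w := rfl
    rw [this, AA_mul_self]
    rfl
  let D := K × {w : MM F K // w ∈ Wb F K ∧ w ≠ 0}
  let E := {x : MM F K // qf C x = 0 ∧ x ∉ Wb F K}
  let Ψ : D → E := fun p => ⟨AA C p.1 (g p.2.1), by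
    refine ⟨?_, ?_⟩
    · rw [h.quad _ (h.memA _), h.quad g hg, qf_Wb p.2.2.1]
    · intro h1
      have h3 := hAW p.1 _ h1
      rw [hAA] at h3
      exact p.2.2.2 (f2 hT h2 h hg hn p.2.2.1 h3)⟩
  have hΨ : Function.Injective Ψ := by
    rintro ⟨t, w, hw, hw0⟩ ⟨t', w', hw', hw0'⟩ he
    have h1 : AA C t (g w) = AA C t' (g w') := congrArg Subtype.val he
    have h3 : AA C (t' + t) (g w) = g w' := by
      have h3 := congrArg (AA C t') h1
      rw [hAA] at h3
      rw [← h3]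
      exact (aFun_aFun C t' t (g w)).symm
    have h4 : t' + t = 0 := by
      by_contra hne
      have hm : ¬ FixV (g⁻¹ * AA C (t' + t) * g) := fun h5 => hne (h.reg g hg hn _ h5)
      have h6 : (g⁻¹ * AA C (t' + t) * g) w = w' := by
        change g⁻¹ (AA C (t' + t) (g w)) = w'
        rw [h3, inv_apply_self]
      exact hw0 (f2 hT h2 h (mul_mem (mul_mem (inv_mem hg) (h.memA _)) hg) hm hw (by rw [h6]; exact hw'))
    have h5 : t' = t := C.eq_of_add_eq_zeroK h4
    subst h5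
    rw [h4, AA_zero] at h3
    have h6 : w = w' := g.injective h3
    subst h6
    rfl
  have hb : ∀ s : K, ∃ b : K, s ≠ 0 → C.T s b = 1 := by
    intro s
    by_cases hs : s = 0
    · exact ⟨0, fun h => absurd hs h⟩
    · obtain ⟨b, hb⟩ := C.exists_T_eq hs 1
      exact ⟨b, fun _ => hb⟩
  choose b hb using hb
  let j : E → D := fun x => (if x.1.1 = 0 then x.1.2.2.1 + x.1.2.2.2 • b x.1.2.1 else x.1.2.2.1,
    ⟨(0, 0, x.1.2.1, x.1.1), mk_mem_Wb.2 ⟨rfl, rfl⟩, by
      intro h1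
      apply x.2.2
      simp only [Prod.mk_eq_zero, true_and] at h1
      exact mem_Wb.2 ⟨h1.2, h1.1⟩⟩)
  have hj : Function.Injective j := by
    rintro ⟨⟨u, s, k, v⟩, hq, hW⟩ ⟨⟨u', s', k', v'⟩, hq', hW'⟩ he
    have h1 := congrArg (fun p : D => p.1) he
    have h2 := congrArg (fun p : D => p.2.1) he
    simp only [j, Prod.mk.injEq, true_and] at h1 h2
    obtain ⟨rfl, rfl⟩ := h2
    rw [qf] at hq hq'
    simp only at hq hq'
    by_cases hu : u = 0
    · subst hu
      rw [if_pos rfl, if_pos rfl] at h1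
      have hs : s ≠ 0 := by
        rintro rfl
        exact hW (mk_mem_Wb.2 ⟨rfl, rfl⟩)
      have h3 := congrArg (fun y => C.T s y) h1
      simp only [C.T_add_right, C.T_smul_right, hb s hs, mul_one] at h3
      rw [zero_mul, zero_add] at hq hq'
      rw [hq, hq', zero_add, zero_add] at h3
      subst h3
      have h4 := add_right_cancel h1
      subst h4
      rfl
    · rw [if_neg hu, if_neg hu] at h1
      subst h1
      have h3 : u * v = u * v' := by linear_combination hq - hq'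
      have h4 := mul_left_cancel₀ hu h3
      subst h4
      rfl
  have hcard : Nat.card E ≤ Nat.card D := Nat.card_le_card_of_injective j hj
  have hbij := hΨ.bijective_of_nat_card_le hcard
  obtain ⟨⟨t, w, hw, hw0⟩, he⟩ := hbij.2 ⟨x, hx, hxW⟩
  have h1 : AA C t (g w) = x := congrArg Subtype.val he
  refine ⟨g⁻¹ * AA C t, mul_mem (inv_mem hg) (h.memA t), ?_⟩
  change g⁻¹ (AA C t x) ∈ Wb F K
  rw [← h1, hAA, inv_apply_self]
  exact hw

/-- `LinOut` for `|F| = 2`, `[K : F] = 3` -/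
theorem of_lin (h2 : Nat.card F = 2) (h : Lin C R) : LinOut C R where
  f1 := by
    intro g hg hn w hw h1
    obtain ⟨c, rfl⟩ := mem_Vb_iff.1 hw
    rw [map_smul] at h1
    have h2 := (mul_eq_zero.1 h1).resolve_right (fst_ne_zero hT h2 h hg hn)
    rw [h2, zero_smul]
  f2 := fun g hg hn w hw hgw => f2 hT h2 h hg hn hw hgw
  f3 := fun B hinv hB x hx => f3 hT h2 h hinv hB x hx
  f3' := fun B hinv hB t ht => f3' hT h2 h hinv hB t ht
  f4 := fun _ B hinv hB => f4 hT h2 h hinv hB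
  sing := sing hT h2 h

end

end Cfsg.Agent.HexTwo.LinOut
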