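import Mathlib
import Cfsg.Agent.HexGlob.OneBase
import Cfsg.Agent.HexTwo.Facts

/-!
# The group induced by `L₁` on `Da / Z` for type `³D₄(q)`, all `q`

The statements of `HexGlob.OneBase` (helper101) which use `Dat C`, for `DatT C`.
-/

set_option autoImplicit false

namespace Cfsg.Agent.HexTwo.OneBase

open Cfsg.Agent.HexRec Cfsg.Agent.HexEss Cfsg.Agent.HexEss.Abel Subgroup Cfsg.Agent.HexGlob
  Cfsg.Agent.HexGlob.OneSpec Cfsg.Agent.HexGlob.OneRep Cfsg.Agent.HexGlob.OneBase Cfsg.Agent.Lib.EssDefs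
open Cfsg.Agent.HexTwo.Facts

universe u v

variable {F K : Type v} [Field F] [Field K] [Algebra F K] {C : Cubic F K}
  {G : Type u} [Group G] [Finite G] {S : Sylow 2 G} (co : Coord C (S : Subgroup G))

/-- `N_G(S)` normalises `Da` -/
theorem normalizer_S_le (hT : DatT C) :
    normalizer ((S : Subgroup G) : Set G) ≤ normalizer ((Da co : Subgroup G) : Set G) :=
  Facts.le_normalizer_Da_of_P hT le_rfl

theorem card_K (hT : DatT C) (h2 : Nat.card F = 2) : Nat.card K = 8 := by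
  have := hT.fin
  rw [Module.natCard_eq_pow_finrank (K := F) (V := K), hT.deg, h2]
  norm_num

theorem card4 (hT : DatT C) (h2 : Nat.card F = 2) : 4 ≤ Nat.card (T1 co) := by
  rw [card_T1, card_K hT h2]
  norm_num

/-- the statement on groups of odd order -/
def HOddLin (C : Cubic F K) : Prop := ∀ Γ : Subgroup (MM F K ≃ₗ[F] MM F K), Odd (Nat.card Γ) →
  (∀ g ∈ Γ, ∀ v w, formA C (g v) (g w) = formA C v w) → (∀ g ∈ Γ, ∀ w, qf C (g w) = qf C w) →
  (∀ g ∈ Γ, ∀ t, AA C t * g * (AA C t)⁻¹ ∈ Γ) → Γ = ⊥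

/-- `O(R) = 1` -/
theorem core (hodd : HOddLin C) : Cfsg.oddCore (R1 co) = ⊥ := by
  have h1 := hodd ((Cfsg.oddCore (R1 co)).map (R1 co).subtype) ?_ ?_ ?_ ?_
  · rw [eq_bot_iff]
    intro g hg
    have h2 : (g : MM F K ≃ₗ[F] MM F K) ∈ (Cfsg.oddCore (R1 co)).map (R1 co).subtype := ⟨g, hg, rfl⟩
    rw [h1, mem_bot] at h2
    exact mem_bot.2 (Subtype.ext h2)
  · rw [Nat.card_congr ((Cfsg.oddCore (R1 co)).equivMapOfInjective _ (R1 co).subtype_injective).toEquiv.symm]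
    exact Nat.coprime_two_right.1 (Cfsg.Agent.Lib.Cores.pPrimeCore_coprime 2)
  · rintro _ ⟨g, -, rfl⟩ v w
    exact form co _ g.2 v w
  · rintro _ ⟨g, -, rfl⟩ w
    exact quad co _ g.2 w
  · rintro _ ⟨g, hg, rfl⟩ t
    refine ⟨⟨AA C t, memA co t⟩ * g * (⟨AA C t, memA co t⟩)⁻¹, ?_, rfl⟩
    exact (inferInstance : (Cfsg.oddCore (R1 co)).Normal).conj_mem g hg _

include co in
/-- `V̄` is the space of fixed points of `T` -/
theorem mem_Vb_iff_fixed (hT : DatT C) (w : MM F K) : w ∈ Vb F K ↔ ∀ t : K, AA C t w = w := by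
  constructor
  · intro hw t
    obtain ⟨u, s, k, y⟩ := w
    obtain ⟨rfl, rfl, rfl⟩ := mk_mem_Vb.1 hw
    rw [AA_apply, C.cr_zero_right, C.T_zero_right, C.T_zero_right]
    simp
  · intro h
    obtain ⟨x, hx, rfl⟩ := exists_wA (co := co) w
    rw [← mem_E2_iff co hx]
    apply Facts.mem_E2_of_Z2 hT hx.1
    intro y hy
    have h1 := h (cx co y).a1
    rw [← wA_conj hy hx] at h1
    have hyx : y * x * y⁻¹ ∈ Da co := conj_mem_of_le (S_le_normalizer_Da co) hy hx
    have h2 := (wA_eq_iff hx hyx).1 h1.symm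
    have e : cm x⁻¹ y = x⁻¹ * (y * x * y⁻¹) := by unfold cm; group
    have h3 : cm x⁻¹ y ∈ Z co := by rw [e]; exact h2
    have h4 : cm y x⁻¹ ∈ Z co := Facts.cm_mem_swap.1 h3
    have h5 : cm y x = x * (cm y x⁻¹)⁻¹ * x⁻¹ := by unfold cm; group
    rw [h5]
    exact conj_mem_of_le Facts.P_le_normalizer_Z hx.1 (inv_mem h4)

include co in
theorem fixV_of_norT (hT : DatT C) {g : MM F K ≃ₗ[F] MM F K} (h : NorT C g⁻¹) : FixV g := by
  intro w hw
  rw [mem_Vb_iff_fixed co hT] at hw ⊢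
  intro t
  obtain ⟨t', ht'⟩ := h t
  have h1 : AA C t * g = g * AA C t' := by rw [← ht']; group
  have h2 := congrArg (fun y : MM F K ≃ₗ[F] MM F K => y w) h1
  have h3 : AA C t (g w) = g (AA C t' w) := h2
  rw [h3, hw]

/-- some element of `R` moves `V̄` -/
theorem ne (hT : DatT C) (hN : ¬ normalizer ((Da co : Subgroup G) : Set G) ≤ normalizer ((E2 co : Subgroup G) : Set G)) :
    ∃ g ∈ R1 co, ¬ FixV g := by
  by_contra hcon
  push Not at hcon
  apply hN
  intro n hn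
  obtain ⟨l, hl, m, hm, rfl⟩ := exists_mul co hn
  refine mul_mem ((fixV_iff co ⟨l, hl⟩).1 (hcon _ ⟨⟨l, hl⟩, rfl⟩)) ?_
  exact Facts.le_normalizer_E2_of_P hT le_rfl hm

theorem se (hT : DatT C) (hE : Ess 2 (S : Subgroup G) (Da co)) : ∃ H : Subgroup (R1 co), Cfsg.IsStronglyEmbedded H := by
  obtain ⟨H, hE⟩ := hE
  have hK0 : ∀ l : L1 S co, rr co l = 1 → (l : G) ∈ H := fun l hl => hE.sup_le (rr_eq_one co hl)
  have hSH : (S : Subgroup G) ≤ H := fun s hs => hE.inf_le ⟨hs, S_le_normalizer_Da co hs⟩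
  have hmem : ∀ l : L1 S co, rr co l ∈ (H.subgroupOf (L1 S co)).map (rr co) ↔ (l : G) ∈ H := by
    intro l
    constructor
    · rintro ⟨k, hk, hkl⟩
      have h1 : rr co (k⁻¹ * l) = 1 := by rw [map_mul, map_inv, hkl, inv_mul_cancel]
      have h2 := hK0 _ h1
      have h3 : (l : G) = (k : G) * (((k⁻¹ * l : L1 S co)) : G) := by
        show (l : G) = (k : G) * ((k : G)⁻¹ * l)
        group
      rw [h3]
      exact mul_mem hk h2
    · intro h
      exact ⟨l, h, rfl⟩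
  refine ⟨(H.subgroupOf (L1 S co)).map (rr co), ?_, ?_, ?_⟩
  · -- proper
    intro htop
    apply hE.ne
    apply le_antisymm hE.le
    intro n hn
    obtain ⟨l, hl, m, hm, rfl⟩ := exists_mul co hn
    refine mul_mem ((hmem ⟨l, hl⟩).1 (by rw [htop]; trivial)) ?_
    by_contra hmH
    obtain ⟨s, hs, hsc⟩ := exists_cx (co := co) ⟨1, 0, 0, 0, 0, 0⟩
    have h1 : s ^ 2 ∈ Da co ⊔ centralizer ((Da co : Subgroup G) : Set G) := by
      refine mem_sup_left ?_
      rw [pow_two]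
      exact ⟨mul_mem hs hs, a1_sq hs⟩
    have h2 := hE.se m (normalizer_S_le co hT hm) hmH s (hSH hs) h1 (hSH ((mem_normalizer_iff.1 hm s).1 hs))
    have h3 := Cfsg.Agent.Hex.SE.mem_of_mem_K0 hE hs h2
    have h4 := h3.2
    rw [hsc] at h4
    exact one_ne_zero h4
  · -- even order
    obtain ⟨s, hs, h, hsc⟩ := exists_AA co 1
    have h1 : rr co ⟨s, S_le_L1 co hs⟩ ∈ (H.subgroupOf (L1 S co)).map (rr co) := (hmem _).2 (hSH hs)
    have h2 : orderOf (rr co ⟨s, S_le_L1 co hs⟩) = 2 := by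
      refine orderOf_eq_prime ?_ ?_
      · apply Subtype.ext
        rw [pow_two]
        show rh co ⟨s, S_le_L1 co hs⟩ * rh co ⟨s, S_le_L1 co hs⟩ = 1
        rw [h, AA_mul_self]
      · intro h3
        have h4 : rh co ⟨s, S_le_L1 co hs⟩ = 1 := congrArg (fun x : R1 co => (x : MM F K ≃ₗ[F] MM F K)) h3
        rw [h] at h4
        exact one_ne_zero (AA_eq_one C h4)
    have h3 := Subgroup.orderOf_dvd_natCard _ h1
    rw [h2] at h3
    exact even_iff_two_dvd.2 h3
  · -- odd intersections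
    intro g hg
    obtain ⟨x, rfl⟩ := rr_surjective co g
    by_contra hodd
    rw [Nat.not_odd_iff_even, even_iff_two_dvd] at hodd
    have : Fact (Nat.Prime 2) := ⟨Nat.prime_two⟩
    obtain ⟨y, hy⟩ := exists_prime_orderOf_dvd_card' 2 hodd
    obtain ⟨y, hy1, y', hy', hyy⟩ := y
    obtain ⟨k, hk, rfl⟩ := hy'
    have hyy' : rr co (x * k * x⁻¹) = y := by
      rw [← hyy, map_mul, map_mul, map_inv]
      rfl
    have h1 : (x * k * x⁻¹ : G) ∈ H := by
      have := (hmem (x * k * x⁻¹)).1 (by rw [hyy']; exact hy1)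
      exact this
    have hy2 : y ^ 2 = 1 := by
      have := pow_orderOf_eq_one (⟨y, hy1, rr co k, ⟨k, hk, rfl⟩, hyy⟩ : ↥(((H.subgroupOf (L1 S co)).map (rr co)) ⊓
        ((H.subgroupOf (L1 S co)).map (rr co)).map (MulAut.conj (rr co x)).toMonoidHom))
      rw [hy] at this
      exact congrArg Subtype.val this
    have hy1' : y ≠ 1 := by
      intro h
      subst h
      have h3 : (⟨1, hy1, rr co k, ⟨k, hk, rfl⟩, hyy⟩ : ↥(((H.subgroupOf (L1 S co)).map (rr co)) ⊓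
        ((H.subgroupOf (L1 S co)).map (rr co)).map (MulAut.conj (rr co x)).toMonoidHom)) = 1 := rfl
      rw [h3, orderOf_one] at hy
      exact absurd hy (by norm_num)
    have hk2 : rr co (k ^ 2) = 1 := by
      have h3 : k ^ 2 = x⁻¹ * (x * k * x⁻¹) ^ 2 * x := by simp [pow_two, mul_assoc]
      rw [h3, map_mul, map_mul, map_pow, hyy', hy2, mul_one, map_inv, inv_mul_cancel]
    have h4 := hE.se (x : G) (L1_le_normalizer_Da co x.2) (fun hx => hg ((hmem x).2 hx)) (k : G) hk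
      (rr_eq_one co hk2) h1
    have h5 := rr_of_K0 co h4
    apply hy1'
    rw [← hyy', map_mul, map_mul, h5, mul_one, map_inv, mul_inv_cancel]

end Cfsg.Agent.HexTwo.OneBase
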