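import Mathlib
import Cfsg.Agent.HexTwo.OneBase
import Cfsg.Agent.HexTwoGlob.OddTwo

/-!
# `HOddLin` for `|F| = 2` (from `HexTwoGlob.OddTwo`, helper513)
-/

set_option autoImplicit false

namespace Cfsg.Agent.HexTwo.Odd

open Cfsg.Agent.HexRec Cfsg.Agent.HexEss Cfsg.Agent.HexEss.Abel Subgroup Cfsg.Agent.HexGlob.OneSpec
open Cfsg.Agent.HexTwo.Facts Cfsg.Agent.HexTwo.OneBase

universe u v

variable {F K : Type v} [Field F] [Field K] [Algebra F K] {C : Cubic F K}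

theorem hOddLin (hT : DatT C) (h2 : Nat.card F = 2) : HOddLin C := by
  intro Γ hodd hform _ hnor
  let φ : (MM F K ≃ₗ[F] MM F K) →* Equiv.Perm (MM F K) := MulAction.toPermHom _ _
  have hφ : ∀ (g : MM F K ≃ₗ[F] MM F K) (w : MM F K), φ g w = g w := fun _ _ => rfl
  have h1 := Cfsg.Agent.HexTwoGlob.OddTwo.eq_bot (C := C) ⟨hT.reg, h2, hT.deg⟩ (Γ.map φ) ?_ ?_ ?_
  · rw [eq_bot_iff]
    intro g hg
    have h3 : φ g ∈ Γ.map φ := ⟨g, hg, rfl⟩
    rw [h1, mem_bot] at h3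
    rw [mem_bot]
    apply LinearEquiv.ext
    intro w
    rw [← hφ, h3]
    rfl
  · exact hodd.of_dvd_nat (Subgroup.card_map_dvd _ _)
  · rintro _ ⟨g, hg, rfl⟩ v w
    exact hform g hg v w
  · rintro t _ ⟨g, hg, rfl⟩
    have e : Cfsg.Agent.HexTwoGlob.OddTwo.At C t = φ (AA C t) := rfl
    rw [e, ← map_mul, ← map_inv, ← map_mul]
    exact ⟨_, hnor g hg t, rfl⟩

end Cfsg.Agent.HexTwo.Odd
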