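import Mathlib
import Cfsg.Agent.HexTwo.Odd
import Cfsg.Agent.HexTwo.LinOut
import Cfsg.Agent.HexGlob.OneOut
import Cfsg.Agent.HexTwo.EssBoth

/-!
# `Lin C (R1 co)` and `Out1 S co` for `|F| = 2`, `[K : F] = 3`
-/

set_option autoImplicit false

namespace Cfsg.Agent.HexTwo.OneBen

open Cfsg.Agent.HexRec Cfsg.Agent.HexEss Cfsg.Agent.HexEss.Abel Subgroup Cfsg.Agent.HexGlob
  Cfsg.Agent.HexGlob.OneSpec Cfsg.Agent.HexGlob.OneRep Cfsg.Agent.HexGlob.OneBase Cfsg.Agent.Lib.EssDefs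
open Cfsg.Agent.HexTwo.Facts

universe u v

variable {F K : Type v} [Field F] [Field K] [Algebra F K] {C : Cubic F K}
  {G : Type u} [Group G] [Finite G] {S : Sylow 2 G} (co : Coord C (S : Subgroup G))

/-- the properties of a group with a Sylow 2-subgroup acting as in `PSL₂(2^n)` which are used -/
structure RK {R : Type*} [Group R] (T : Sylow 2 R) : Prop where
  simple : IsSimpleGroup R
  trans : ∀ g h : R, g ∉ normalizer ((T : Subgroup R) : Set R) → h ∉ normalizer ((T : Subgroup R) : Set R) →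
    ∃ t ∈ (T : Subgroup R), h⁻¹ * (t * g) ∈ normalizer ((T : Subgroup R) : Set R)
  reg : ∀ g t : R, g ∉ normalizer ((T : Subgroup R) : Set R) → t ∈ (T : Subgroup R) →
    g⁻¹ * t * g ∈ normalizer ((T : Subgroup R) : Set R) → t = 1
  trans_torus : ∀ g s t : R, g ∉ normalizer ((T : Subgroup R) : Set R) → s ∈ (T : Subgroup R) → s ≠ 1 →
    t ∈ (T : Subgroup R) → t ≠ 1 → ∃ d ∈ normalizer ((T : Subgroup R) : Set R),
      g⁻¹ * d * g ∈ normalizer ((T : Subgroup R) : Set R) ∧ d * s * d⁻¹ = t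
  eq_top : ∀ M : Subgroup R, (T : Subgroup R) ≤ M → (∃ x ∈ M, x ∉ normalizer ((T : Subgroup R) : Set R)) → M = ⊤

/-- the elements of `T1` -/
noncomputable def el (t : K) : R1 co := ⟨AA C t, memA co t⟩

theorem el_mem (t : K) : el co t ∈ (T1 co : Subgroup (R1 co)) := (mem_T1 co).2 ⟨t, rfl⟩

/-- `FixV` means normalising `T1` -/
theorem fixV_iff_norm (hT : DatT C)
    (hN : ¬ normalizer ((Da co : Subgroup G) : Set G) ≤ normalizer ((E2 co : Subgroup G) : Set G))
    (hR : RK (T1 co)) (g : R1 co) : FixV (g : MM F K ≃ₗ[F] MM F K) ↔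
      g ∈ normalizer ((T1 co : Subgroup (R1 co)) : Set (R1 co)) := by
  constructor
  · intro h
    by_contra hg
    let M : Subgroup (R1 co) :=
      { carrier := {x | FixV (x : MM F K ≃ₗ[F] MM F K)}
        mul_mem' := fun {a b} ha hb => OneLinA.fixV_mul ha hb
        one_mem' := fun w hw => hw
        inv_mem' := fun {a} ha => OneLinA.fixV_inv ha }
    have hM : M = ⊤ := by
      refine hR.eq_top M ?_ ⟨g, h, hg⟩
      intro x hx
      obtain ⟨t, ht⟩ := (mem_T1 co).1 hx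
      show FixV (x : MM F K ≃ₗ[F] MM F K)
      rw [ht]
      exact OneLinA.fixV_AA t
    obtain ⟨y, hy, hyn⟩ := OneBase.ne co hT hN
    apply hyn
    have h1 : (⟨y, hy⟩ : R1 co) ∈ M := by rw [hM]; trivial
    exact h1
  · intro h
    apply OneBase.fixV_of_norT co hT
    have h1 := (norT_iff co (g := g⁻¹)).2 (inv_mem h)
    exact h1

theorem lin (hT : DatT C)
    (hN : ¬ normalizer ((Da co : Subgroup G) : Set G) ≤ normalizer ((E2 co : Subgroup G) : Set G))
    (hW : normalizer ((S : Subgroup G) : Set G) ≤ normalizer ((F0 co : Subgroup G) : Set G))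
    (hR : RK (T1 co)) : Lin C (R1 co) where
  form := form co
  quad := quad co
  memA := memA co
  simple := hR.simple
  stab := fun g hg => (fixV_iff_norm co hT hN hR ⟨g, hg⟩).trans (norT_iff co (g := ⟨g, hg⟩)).symm
  ne := OneBase.ne co hT hN
  norW := fun g hg h => norW co hW ((fixV_iff_norm co hT hN hR ⟨g, hg⟩).1 h)
  trans := by
    intro g₁ h₁ g₂ h₂ n₁ n₂
    obtain ⟨t, ht, h⟩ := hR.trans ⟨g₁, h₁⟩ ⟨g₂, h₂⟩ (fun h => n₁ ((fixV_iff_norm co hT hN hR ⟨g₁, h₁⟩).2 h))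
      (fun h => n₂ ((fixV_iff_norm co hT hN hR ⟨g₂, h₂⟩).2 h))
    obtain ⟨a, ha⟩ := (mem_T1 co).1 ht
    refine ⟨a, ?_⟩
    have h3 := (fixV_iff_norm co hT hN hR _).2 h
    rw [← ha, mul_assoc]
    exact h3
  reg := by
    intro g hg hn t ht
    have h1 := (fixV_iff_norm co hT hN hR (⟨g, hg⟩⁻¹ * el co t * ⟨g, hg⟩)).1 ht
    have h2 := hR.reg ⟨g, hg⟩ (el co t) (fun h => hn ((fixV_iff_norm co hT hN hR ⟨g, hg⟩).2 h)) (el_mem co t) h1
    exact AA_eq_one C (congrArg Subtype.val h2)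
  transT := by
    intro g hg hn t t' ht ht'
    have hne : ∀ s : K, s ≠ 0 → el co s ≠ 1 := fun s hs h => hs (AA_eq_one C (congrArg Subtype.val h))
    obtain ⟨d, hd, hd1, hd2⟩ := hR.trans_torus ⟨g, hg⟩ (el co t) (el co t')
      (fun h => hn ((fixV_iff_norm co hT hN hR ⟨g, hg⟩).2 h)) (el_mem co t) (hne t ht) (el_mem co t') (hne t' ht')
    refine ⟨d, d.2, (fixV_iff_norm co hT hN hR d).2 hd, (fixV_iff_norm co hT hN hR _).2 hd1, ?_⟩
    exact congrArg Subtype.val hd2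

/-- `Out1` from `RK` -/
theorem out1_of_rk (hT : DatT C) (h2 : Nat.card F = 2)
    (hN : ¬ normalizer ((Da co : Subgroup G) : Set G) ≤ normalizer ((E2 co : Subgroup G) : Set G))
    (hW : normalizer ((S : Subgroup G) : Set G) ≤ normalizer ((F0 co : Subgroup G) : Set G))
    (hR : RK (T1 co)) : Out1 S co :=
  OneOut.out1 co (OneBase.ne co hT hN) hR.simple (LinOut.of_lin hT h2 (lin co hT hN hW hR))

end Cfsg.Agent.HexTwo.OneBen
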