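import Cfsg.Agent.HexTwo.EssBoth

/-!
# `N_G(Db)` for `|F| = 2`: `Out2`
-/

set_option autoImplicit false

namespace Cfsg.Agent.HexTwo.Two

open Cfsg.Agent.HexRec Cfsg.Agent.HexEss Subgroup Cfsg.Agent.Lib.GoldschmidtFusion Cfsg.Agent.Lib
open Cfsg.Agent.TypeL3 Cfsg.Agent.HexGlob.Facts Cfsg.Agent.HexGlob Cfsg.Agent.HexTwo.Facts

universe u v

variable {F K : Type v} [Field F] [Field K] [Algebra F K] {C : Cubic F K}

theorem eq_one_of_ne_zero (h2 : Nat.card F = 2) {f : F} (hf : f ≠ 0) : f = 1 := by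
  obtain ⟨y, -, hy⟩ := (Nat.card_eq_two_iff' (0 : F)).1 h2
  rw [hy f hf, hy 1 one_ne_zero]

variable {G : Type u} [Group G] [Finite G] {S : Sylow 2 G} {co : Coord C (S : Subgroup G)}

theorem eq_of_mem_Z (h2 : Nat.card F = 2) {z z' : G} (hz : z ∈ Z co) (hz1 : z ≠ 1) (hz' : z' ∈ Z co)
    (hz1' : z' ≠ 1) : z = z' := by
  have key : ∀ x ∈ Z co, x ≠ 1 → (cx co x).a4 = 1 := by
    intro x hx hx1
    apply eq_one_of_ne_zero h2
    intro h4
    exact hx1 (eq_one_of_cx hx.1 hx.2.1 hx.2.2.1 hx.2.2.2.1 h4 hx.2.2.2.2.1 hx.2.2.2.2.2)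
  apply cx_inj (co := co) hz.1 hz'.1
  exact Tup.ext (hz.2.1.trans hz'.2.1.symm) (hz.2.2.1.trans hz'.2.2.1.symm)
    (hz.2.2.2.1.trans hz'.2.2.2.1.symm) ((key z hz hz1).trans (key z' hz' hz1').symm)
    (hz.2.2.2.2.1.trans hz'.2.2.2.2.1.symm) (hz.2.2.2.2.2.trans hz'.2.2.2.2.2.symm)

/-- an element centralising one nontrivial element of `Z` normalises `Z` -/
theorem mem_normalizer_Z (h2 : Nat.card F = 2) {n z : G} (hz : z ∈ Z co) (hz1 : z ≠ 1)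
    (h : n * z * n⁻¹ ∈ Z co) : n ∈ normalizer ((Z co : Subgroup G) : Set G) := by
  have hn : n * z * n⁻¹ ≠ 1 := by
    intro h0
    apply hz1
    have : z = n⁻¹ * (n * z * n⁻¹) * n := by group
    rw [this, h0]; group
  have h1 := eq_of_mem_Z h2 h hn hz hz1
  apply mem_normalizer_of_cm
  intro d hd
  by_cases hd1 : d = 1
  · rw [hd1]; unfold cm; simp [one_mem]
  · rw [eq_of_mem_Z h2 hd hd1 hz hz1]
    have : cm n z = 1 := cm_eq_one.2 (by rw [mul_inv_eq_iff_eq_mul] at h1; exact h1)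
    rw [this]; exact one_mem _

theorem exists_Z (co : Coord C (S : Subgroup G)) : ∃ z ∈ Z co, z ≠ 1 := by
  obtain ⟨z, hz, hz1⟩ := HexEss.Step1.exists_Z_ne_one co
  exact ⟨z, hz, hz1⟩

theorem mul_mem_Z_of_E2 (h2 : Nat.card F = 2) {b c : G} (hb : b ∈ E2 co) (hbZ : b ∉ Z co) (hc : c ∈ E2 co)
    (hcZ : c ∉ Z co) : c * b⁻¹ ∈ Z co := by
  have key : ∀ x ∈ E2 co, x ∉ Z co → (cx co x).a2 = 1 := by
    intro x hx hx1
    apply eq_one_of_ne_zero h2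
    intro h4
    exact hx1 ⟨hx.1, hx.2.1, h4, hx.2.2.1, hx.2.2.2.1, hx.2.2.2.2⟩
  have h3 : c * b⁻¹ ∈ E2 co := mul_mem hc (inv_mem hb)
  refine ⟨h3.1, h3.2.1, ?_, h3.2.2.1, h3.2.2.2.1, h3.2.2.2.2⟩
  have h4 := a2_mul (co := co) h3.1 hb.1
  rw [inv_mul_cancel_right, key b hb hbZ, key c hc hcZ, hb.2.1, C.T_zero_left, C.sh_zero, C.T_zero_left,
    C.N_zero, mul_zero, add_zero, add_zero, add_zero] at h4
  simpa using h4

theorem cover (h2 : Nat.card F = 2) {n : G} (hn : n ∈ normalizer ((Db co : Subgroup G) : Set G))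
    (hnZ : n ∉ normalizer ((Z co : Subgroup G) : Set G)) {v : G} (hv : v ∈ E2 co) :
    ∃ z ∈ Z co, ∃ y ∈ Z co, v = z * (n * y * n⁻¹) := by
  obtain ⟨z, hz, hz1⟩ := exists_Z co
  by_cases hvZ : v ∈ Z co
  · exact ⟨v, hvZ, 1, one_mem _, by simp⟩
  · have hb : n * z * n⁻¹ ∈ E2 co :=
      conj_mem_of_le (le_normalizer_E2_of_Db (co := co) le_rfl) hn (Z_le_E2 hz)
    have hbZ : n * z * n⁻¹ ∉ Z co := fun h => hnZ (mem_normalizer_Z h2 hz hz1 h)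
    exact ⟨v * (n * z * n⁻¹)⁻¹, mul_mem_Z_of_E2 h2 hb hbZ hv hvZ, z, hz, by group⟩

/-- an element of `U6` -/
theorem exists_t (co : Coord C (S : Subgroup G)) : ∃ t ∈ (S : Subgroup G), t * t = 1 ∧ (cx co t).a6 = 1 ∧
    (cx co t).a1 = 0 := by
  obtain ⟨t, ht, htc⟩ := exists_cx (co := co) ⟨0, 0, 0, 0, 0, 1⟩
  have h1 : (cx co t).a1 = 0 := by rw [htc]
  refine ⟨t, ht, ?_, by rw [htc], h1⟩
  refine eq_one_of_cx (co := co) (mul_mem ht ht) (a1_sq ht) (a2_sq_Da ht h1) (a3_sq_Da ht h1) ?_ ?_ (a6_sq ht)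
  · rw [a4_sq_Da ht h1, htc]; simp [C.T_zero_left]
  · rw [a5_sq ht, h1, smul_zero]

theorem cm_t (h2 : Nat.card F = 2) {t z b : G} (ht : t ∈ (S : Subgroup G)) (ht6 : (cx co t).a6 = 1)
    (hb : b ∈ E2 co) (hbZ : b ∉ Z co) (hz : z ∈ Z co) (hz1 : z ≠ 1) : cm t b = z := by
  have h1 := cm_mem_Z (co := co) ht hb
  have h3 : (cx co (cm t b)).a4 ≠ 0 := by
    rw [a4_cm_F0 ht hb.1 hb.2.1 hb.2.2.2.1 hb.2.2.2.2, ht6, hb.2.2.1, C.T_zero_right, one_mul, add_zero]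
    intro h4
    exact hbZ ⟨hb.1, hb.2.1, h4, hb.2.2.1, hb.2.2.2.1, hb.2.2.2.2⟩
  exact eq_of_mem_Z h2 h1 (fun h => h3 (by rw [h, cx_one])) hz hz1

/-- `⟨S, S^n⟩` is transitive on the nontrivial elements of `V` -/
theorem trans' (h2 : Nat.card F = 2) {n : G} (hn : n ∈ normalizer ((Db co : Subgroup G) : Set G))
    (hnZ : n ∉ normalizer ((Z co : Subgroup G) : Set G)) {z : G} (hz : z ∈ Z co) (hz1 : z ≠ 1) {a : G}
    (ha : a ∈ E2 co) (ha1 : a ≠ 1) :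
    ∃ l ∈ (S : Subgroup G) ⊔ (S : Subgroup G).map (MulAut.conj n).toMonoidHom, l * a * l⁻¹ = z := by
  obtain ⟨t, ht, -, ht6, -⟩ := exists_t co
  have hSL : (S : Subgroup G) ≤ (S : Subgroup G) ⊔ (S : Subgroup G).map (MulAut.conj n).toMonoidHom :=
    le_sup_left
  have htn : n * t * n⁻¹ ∈ (S : Subgroup G) ⊔ (S : Subgroup G).map (MulAut.conj n).toMonoidHom :=
    mem_sup_right ⟨t, ht, rfl⟩
  have hnE : ∀ x ∈ E2 co, n⁻¹ * x * n ∈ E2 co := by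
    intro x hx
    have := conj_mem_of_le (le_normalizer_E2_of_Db (co := co) le_rfl) (inv_mem hn) hx
    rwa [inv_inv] at this
  have hE2 : ∀ x ∈ E2 co, x * x = 1 := fun x hx => sq_F0 (E2_le_F0 hx)
  -- `c := n z n⁻¹`
  set c := n * z * n⁻¹ with hc
  have hcE : c ∈ E2 co := conj_mem_of_le (le_normalizer_E2_of_Db (co := co) le_rfl) hn (Z_le_E2 hz)
  have hcZ : c ∉ Z co := fun h => hnZ (mem_normalizer_Z h2 hz hz1 h)
  -- conjugation by `t`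
  have h1 : ∀ b ∈ E2 co, b ∉ Z co → t * b * t⁻¹ = z * b := by
    intro b hb hbZ
    rw [conj_eq_cm_mul, cm_t h2 ht ht6 hb hbZ hz hz1]
  -- conjugation by `n t n⁻¹`
  have h3 : ∀ b ∈ E2 co, n⁻¹ * b * n ∉ Z co → (n * t * n⁻¹) * b * (n * t * n⁻¹)⁻¹ = c * b := by
    intro b hb hbZ
    have h4 := h1 _ (hnE b hb) hbZ
    calc (n * t * n⁻¹) * b * (n * t * n⁻¹)⁻¹ = n * (t * (n⁻¹ * b * n) * t⁻¹) * n⁻¹ := by group
      _ = n * (z * (n⁻¹ * b * n)) * n⁻¹ := by rw [h4]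
      _ = c * b := by rw [hc]; group
  have hzn : n⁻¹ * z * n ∉ Z co := by
    intro h
    have := mem_normalizer_Z h2 hz hz1 (n := n⁻¹) (by rwa [inv_inv])
    exact hnZ (by simpa using inv_mem this)
  -- `z ↦ c z` under `n t n⁻¹`
  have h5 : (n * t * n⁻¹) * (c * z) * (n * t * n⁻¹)⁻¹ = z := by
    have h6 : n⁻¹ * (c * z) * n ∉ Z co := by
      intro h
      apply hzn
      have h7 : n⁻¹ * z * n = z⁻¹ * (n⁻¹ * (c * z) * n) := by rw [hc]; group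
      rw [h7]
      exact mul_mem (inv_mem hz) h
    rw [h3 _ (mul_mem hcE (Z_le_E2 hz)) h6, ← mul_assoc, hE2 c hcE, one_mul]
  by_cases haZ : a ∈ Z co
  · exact ⟨1, one_mem _, by rw [eq_of_mem_Z h2 haZ ha1 hz hz1]; simp⟩
  · -- `a = c` or `a = z c`
    have h8 := mul_mem_Z_of_E2 h2 hcE hcZ ha haZ
    by_cases h9 : a * c⁻¹ = 1
    · have hac : a = c := mul_inv_eq_one.1 h9
      refine ⟨(n * t * n⁻¹) * t, mul_mem htn (hSL ht), ?_⟩
      have hcz : z * c = c * z := by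
        have := cm_F0_F0 (E2_le_F0 (Z_le_E2 hz)) (E2_le_F0 hcE)
        exact cm_eq_one.1 this
      calc (n * t * n⁻¹) * t * a * ((n * t * n⁻¹) * t)⁻¹
          = (n * t * n⁻¹) * (t * c * t⁻¹) * (n * t * n⁻¹)⁻¹ := by rw [hac]; group
        _ = z := by rw [h1 c hcE hcZ, hcz, h5]
    · have h10 : a * c⁻¹ = z := eq_of_mem_Z h2 h8 h9 hz hz1
      have hcz : z * c = c * z := by
        have := cm_F0_F0 (E2_le_F0 (Z_le_E2 hz)) (E2_le_F0 hcE)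
        exact cm_eq_one.1 this
      refine ⟨n * t * n⁻¹, htn, ?_⟩
      have h11 : a = c * z := by rw [← hcz, ← h10]; group
      rw [h11, h5]

theorem sup_le_L2 {n : G} (hn : n ∈ normalizer ((Db co : Subgroup G) : Set G)) :
    (S : Subgroup G) ⊔ (S : Subgroup G).map (MulAut.conj n).toMonoidHom ≤ L2 S co := by
  refine sup_le (le_conjClosure _ _) ?_
  rintro _ ⟨x, hx, rfl⟩
  exact conj_mem_conjClosure hn hx

/-- `L₂` is transitive on the nontrivial elements of `V` -/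
theorem trans (h2 : Nat.card F = 2) {n : G} (hn : n ∈ normalizer ((Db co : Subgroup G) : Set G))
    (hnZ : n ∉ normalizer ((Z co : Subgroup G) : Set G)) {a b : G}
    (ha : a ∈ E2 co) (ha1 : a ≠ 1) (hb : b ∈ E2 co) (hb1 : b ≠ 1) : ∃ l ∈ L2 S co, l * a * l⁻¹ = b := by
  obtain ⟨z, hz, hz1⟩ := exists_Z co
  obtain ⟨l, hl, hlz⟩ := trans' h2 hn hnZ hz hz1 ha ha1
  obtain ⟨m, hm, hmz⟩ := trans' h2 hn hnZ hz hz1 hb hb1
  refine ⟨m⁻¹ * l, mul_mem (inv_mem (sup_le_L2 hn hm)) (sup_le_L2 hn hl), ?_⟩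
  calc m⁻¹ * l * a * (m⁻¹ * l)⁻¹ = m⁻¹ * (l * a * l⁻¹) * m := by group
    _ = m⁻¹ * (m * b * m⁻¹) * m := by rw [hlz, hmz]
    _ = b := by group

/-- `[L₂, W] ≤ V` -/
theorem triv (hT : DatT C) {l : G} (hl : l ∈ L2 S co) {w : G} (hw : w ∈ F0 co) : cm l w ∈ E2 co := by
  have hnF := le_normalizer_F0_of_Db (co := co) hT le_rfl
  have hnE := le_normalizer_E2_of_Db (co := co) le_rfl
  have h1 : L2 S co ≤ cenMod (normalizer ((Db co : Subgroup G) : Set G)) (F0 co) (E2 co) hnE := by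
    apply conjClosure_le
    · intro s hs
      refine ⟨?_, fun d hd => cm_mem_E2 hs hd⟩
      exact (Facts.le_normalizer_Db_of_P (co := co) hT le_normalizer) hs
    · exact le_normalizer_cenMod le_normalizer hnF hnE
  exact (h1 hl).2 w hw

end Cfsg.Agent.HexTwo.Two
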