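import Mathlib
import Cfsg.Agent.HexTwo.Two
import Cfsg.Agent.HexTwo.Fus
import Cfsg.Agent.HexTwo.OneBase
import Cfsg.Agent.TypeD4Two.NinePair

/-!
# From the global analysis to `NinePair.Hyp` (`|F| = 2`, `[K : F] = 3`)

`Q = Da`, `z ∈ Z#`, `a = z^n`, `n ∈ N(Db) - N(Z)`.
-/

set_option autoImplicit false

namespace Cfsg.Agent.HexTwo.PairOut

open Cfsg.Agent.HexRec Cfsg.Agent.HexEss Cfsg.Agent.HexEss.Abel Subgroup Cfsg.Agent.HexGlob
open Cfsg.Agent.HexGlob.OneRep Cfsg.Agent.HexGlob.OneBase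
open Cfsg.Agent.HexTwo.Facts Cfsg.Agent.HexTwo.Two Cfsg.Agent.Co2Type.Quad Cfsg.Agent.LargeExtra.Base
open Cfsg.Agent.TypeD4Two.NinePair Cfsg.Agent.HexGlob.Facts

universe u v

variable {F K : Type v} [Field F] [Field K] [Algebra F K] {C : Cubic F K}
variable {G : Type u} [Group G] [Finite G] {S : Sylow 2 G} {co : Coord C (S : Subgroup G)}

/-- `Da` is large extraspecial -/
theorem large (h2 : Nat.card F = 2)
    (hcz : ∀ z ∈ Z co, z ≠ 1 → centralizer ({z} : Set G) ≤ normalizer ((Da co : Subgroup G) : Set G))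
    (hcD : centralizer ((Da co : Subgroup G) : Set G) ≤ Da co) {z : G} (hz : z ∈ Z co) (hz1 : z ≠ 1) :
    Large (Da co) z where
  z_mem := Z_le_Da hz
  z_ne := hz1
  z_sq := sq_F0 (Z_le_F0 hz)
  comm_z := fun x hx => cm_eq_one.1 (cm_Z (co := co) hx.1 hz)
  conj_mem := fun g hg x hx => conj_mem_of_le le_rfl (hcz z hz hz1 (mem_centralizer_singleton_iff.2 hg)) hx
  sq := by
    intro x hx
    by_cases h : x * x = 1
    · exact Or.inl h
    · exact Or.inr (eq_of_mem_Z h2 (OneRep.sq_mem_Z hx) h hz hz1)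
  comm := by
    intro x hx y hy
    by_cases h : cm x⁻¹ y⁻¹ = 1
    · left
      rw [cm_eq_one] at h
      have h4 : (x * y) * (x⁻¹ * y⁻¹) = 1 := by
        rw [h]; group
      have h5 : x * y = (x⁻¹ * y⁻¹)⁻¹ := eq_inv_of_mul_eq_one_left h4
      rw [h5]; group
    · right
      have h3 := eq_of_mem_Z h2 (cm_mem_Z_of_Da (co := co) (inv_mem hx) (inv_mem hy)) h hz hz1
      -- `x y = y x [x⁻¹, y⁻¹]`
      have h4 : x * y = y * x * cm x⁻¹ y⁻¹ := by unfold cm; group
      rw [h4, h3]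
  cent := by
    intro x hx h
    by_cases h1 : x = 1
    · exact Or.inl h1
    · right
      refine eq_of_mem_Z h2 (mem_Z_of_Da hx fun t ht => cm_eq_one.2 (h t ht).symm) h1 hz hz1
  self := by
    intro g _ h
    apply hcD
    rw [mem_centralizer_iff]
    intro x hx
    exact (h x hx).symm

/-- elements of `Da` commuting with an element of `V - Z` are in `RR` -/
theorem mem_RR_of_comm {a x : G} (ha : a ∈ E2 co) (haZ : a ∉ Z co) (hx : x ∈ Da co) (h : x * a = a * x) :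
    x ∈ RR co := by
  rw [mem_RR_iff co hx]
  have h1 := (cm_Da_eq_one hx (E2_le_Da ha)).1 (cm_eq_one.2 h)
  rw [formA_apply] at h1
  have h3 : (wA co a).1 = 0 := ha.2.2.2.2
  have h4 : (wA co a).2.1 = 0 := ha.2.2.2.1
  have h5 : (wA co a).2.2.1 = 0 := ha.2.2.1
  have h6 : (wA co a).2.2.2 ≠ 0 := fun h6 => haZ ⟨ha.1, ha.2.1, h6, ha.2.2.1, ha.2.2.2.1, ha.2.2.2.2⟩
  rw [h3, h4, h5, C.T_zero_right, C.T_zero_right, zero_mul, add_zero, add_zero, add_zero] at h1
  exact (mul_eq_zero.1 h1).resolve_right h6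

theorem not_comm_of_notMem_RR {a x : G} (ha : a ∈ E2 co) (haZ : a ∉ Z co) (hx : x ∈ Da co) (h : x ∉ RR co) :
    x * a ≠ a * x := fun h1 => h (mem_RR_of_comm ha haZ hx h1)

/-- **the output** -/
theorem hyp (hT : DatT C) (h2 : Nat.card F = 2) (o1 : Out1 S co) (o2 : Out2 S co)
    (hcz : ∀ z ∈ Z co, z ≠ 1 → centralizer ({z} : Set G) ≤ normalizer ((Da co : Subgroup G) : Set G))
    (hcD : centralizer ((Da co : Subgroup G) : Set G) ≤ Da co) :
    ∃ (Q : Subgroup G) (z : G) (A : Subgroup G) (a : G), Hyp Q z A a ∧ Q = Da co ∧ z ∈ Z co := by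
  obtain ⟨z, hz, hz1⟩ := exists_Z co
  obtain ⟨n, hn, hnZ⟩ := o2.ex
  have hL := large h2 hcz hcD hz hz1
  set a := n * z * n⁻¹ with ha
  have haE : a ∈ E2 co := conj_mem_of_le (le_normalizer_E2_of_Db (co := co) le_rfl) hn (Z_le_E2 hz)
  have haZ : a ∉ Z co := fun h => hnZ (mem_normalizer_Z h2 hz hz1 h)
  have hne : a ≠ z := fun h => haZ (h ▸ hz)
  have haa : a⁻¹ = a := inv_eq_of_mul_eq_one_left (sq_F0 (E2_le_F0 haE))
  -- elements of `V - Z`
  have hV : ∀ x ∈ E2 co, x ∉ Z co → x = a ∨ x = a * z := by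
    intro x hx hxZ
    have h3 := mul_mem_Z_of_E2 h2 haE haZ hx hxZ
    have hxa : a * z = z * a := (hL.comm_z a (E2_le_Da haE))
    by_cases h4 : x * a⁻¹ = 1
    · left; exact mul_inv_eq_one.1 h4
    · right
      have h5 := eq_of_mem_Z h2 h3 h4 hz hz1
      rw [hxa, ← h5]; group
  refine ⟨Da co, z, (Da co).map (MulAut.conj n).toMonoidHom, a, ⟨pair_of_conj hL (E2_le_Da haE) hne, ?_, ?_, ?_⟩,
    rfl, hz⟩
  · rw [card_Da, OneBase.card_K hT h2, h2]
    norm_num
  · intro c hc hcom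
    have hcN := hcz z hz hz1 (mem_centralizer_singleton_iff.2 hc)
    obtain ⟨l, hl, m, hm, rfl⟩ := exists_mul co hcN
    set v := m * a * m⁻¹ with hv
    have hvE : v ∈ E2 co := conj_mem_of_le (HexTwo.Facts.le_normalizer_E2_of_P hT le_rfl) hm haE
    have hvZ : v ∉ Z co := by
      intro h
      apply haZ
      have h3 := conj_mem_of_le (le_normalizer_Z_of_P (co := co) le_rfl) (inv_mem hm) h
      have e : m⁻¹ * v * m⁻¹⁻¹ = a := by rw [hv]; group
      rwa [e] at h3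
    have e : l * m * a * (l * m)⁻¹ = l * v * l⁻¹ := by rw [hv]; group
    rw [e] at hcom ⊢
    have hxD : l * v * l⁻¹ ∈ Da co := conj_mem_Da co hl (E2_le_Da hvE)
    have hxR := mem_RR_of_comm haE haZ hxD hcom
    have hlV : l ∈ normalizer ((E2 co : Subgroup G) : Set G) := by
      by_contra h
      exact hvZ (o1.f1 l hl h v hvE hxR)
    refine hV _ (conj_mem_of_le le_rfl hlV hvE) fun h => hvZ ?_
    have h3 := o1.cent l hl _ h
    have h4 : v = l⁻¹ * (l * v * l⁻¹) * l := by group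
    rw [h4, mul_assoc, ← h3]
    simpa using h
  · obtain ⟨g, hg, v, hv, hgv⟩ := o1.f0
    have hvZ : v ∉ Z co := by
      intro h
      apply hgv
      rw [o1.cent g hg v h, mul_inv_cancel_right]
      exact Z_le_RR h
    refine ⟨g, o1.cent g hg z hz, ?_⟩
    apply not_comm_of_notMem_RR haE haZ (conj_mem_Da co hg (E2_le_Da haE))
    intro h
    apply hgv
    rcases hV v hv hvZ with rfl | rfl
    · exact h
    · have e : g * (a * z) * g⁻¹ = (g * a * g⁻¹) * (g * z * g⁻¹) := by group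
      have hgz : g * z * g⁻¹ = z := by rw [o1.cent g hg z hz, mul_inv_cancel_right]
      rw [e, hgz]
      exact mul_mem h (Z_le_RR hz)

end Cfsg.Agent.HexTwo.PairOut
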