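import Cfsg.Agent.HexTwo.Two
import Cfsg.Agent.HexTwo.Cen0

/-!
# `N_G(Db)` for `|F| = 2`: `L₂` is generated by two Sylow subgroups modulo `Db C(Db)`; `Out2`
-/

set_option autoImplicit false

namespace Cfsg.Agent.HexTwo.TwoGen

open Cfsg.Agent.HexRec Cfsg.Agent.HexEss Subgroup Cfsg.Agent.Lib.GoldschmidtFusion Cfsg.Agent.Lib
open Cfsg.Agent.TypeL3 Cfsg.Agent.HexGlob.Facts Cfsg.Agent.HexGlob Cfsg.Agent.HexTwo.Facts
open Cfsg.Agent.HexTwo.Cen0 Cfsg.Agent.HexTwo.Two

universe u v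

variable {F K : Type v} [Field F] [Field K] [Algebra F K] {C : Cubic F K}
variable {G : Type u} [Group G] [Finite G] {S : Sylow 2 G} {co : Coord C (S : Subgroup G)}

theorem cen0 (hT : DatT C) (co : Coord C (S : Subgroup G)) :
    Cen0 (S : Subgroup G) (normalizer ((Db co : Subgroup G) : Set G)) (Db co) (F0 co) (E2 co) where
  S_le := Facts.le_normalizer_Db_of_P (co := co) hT le_normalizer
  N_Q := le_rfl
  N_W := le_normalizer_F0_of_Db (co := co) hT le_rfl
  N_V := le_normalizer_E2_of_Db (co := co) le_rfl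
  Q_le := Db_le
  W_le := F0_le_Db
  V_le := E2_le_F0
  qq := fun _ hx _ hy => cm_mem_F0_of_Db hx hy
  qw := fun _ hx _ hy => cm_mem_E2 hx.1 hy
  qv := fun _ hx _ hy => cm_Db_E2 hx hy
  wgen := by
    refine le_trans (le_of_eq (F0_eq (co := co) hT).symm) (le_trans ?_ le_sup_left)
    rw [closure_le]
    rintro _ ⟨g, hg, h, hh, rfl⟩
    exact subset_closure ⟨g, hg, h, hh, rfl⟩
  sv := fun _ hs h => ⟨hs, a6_eq_zero_of_comm hs h⟩

/-- `c ∈ C_N(V)`, `s ∈ S`: `[c, s] ∈ Db C(Db)` -/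
theorem cm_mem (hT : DatT C) {c s : G} (hc : c ∈ normalizer ((Db co : Subgroup G) : Set G))
    (hcV : ∀ v ∈ E2 co, cm c v = 1) (hs : s ∈ (S : Subgroup G)) :
    cm c s ∈ Db co ⊔ centralizer ((Db co : Subgroup G) : Set G) := by
  have h0 := cen0 hT co
  have hsN := h0.S_le hs
  have hN_conj : ∀ {n x : G}, n ∈ normalizer ((Db co : Subgroup G) : Set G) → x ∈ Db co → n * x * n⁻¹ ∈ Db co :=
    fun hn hx => conj_mem_of_le le_rfl hn hx
  have hcc : ∀ {v : G}, v ∈ E2 co → c * v * c⁻¹ = v := by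
    intro v hv
    rw [conj_eq_cm_mul, hcV v hv, one_mul]
  -- the commutator with an element of `F0` is a homomorphism on `Db`
  have hom : ∀ {x y w : G}, x ∈ Db co → y ∈ Db co → w ∈ F0 co → cm (x * y) w = cm x w * cm y w := by
    intro x y w hx hy hw
    have e : cm (x * y) w = x * cm y w * x⁻¹ * cm x w := by unfold cm; group
    have h1 := cm_mem_E2 (co := co) hy.1 hw
    have h2 : x * cm y w * x⁻¹ = cm y w := by
      rw [conj_eq_cm_mul, cm_Db_E2 hx h1, one_mul]
    have h3 := cm_mem_E2 (co := co) hx.1 hw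
    rw [e, h2]
    exact cm_eq_one.1 (cm_F0_F0 (E2_le_F0 h1) (E2_le_F0 h3))
  -- invariance in the second argument
  have inv2 : ∀ {x w v : G}, x ∈ Db co → w ∈ F0 co → v ∈ E2 co → cm x (w * v) = cm x w := by
    intro x w v hx hw hv
    have e : cm x (w * v) = cm x w * (w * cm x v * w⁻¹) := by unfold cm; group
    rw [e, cm_Db_E2 hx hv]; group
  have hcw : ∀ {w : G}, w ∈ F0 co → c⁻¹ * w * c ∈ F0 co := by
    intro w hw
    have := conj_mem_of_le h0.N_W (inv_mem hc) hw
    rwa [inv_inv] at this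
  have hsw : ∀ {w : G}, w ∈ F0 co → ∃ v ∈ E2 co, s⁻¹ * w * s = w * v := by
    intro w hw
    refine ⟨w⁻¹ * (s⁻¹ * w * s), ?_, by group⟩
    have h1 := cm_mem_E2 (co := co) (inv_mem hs) hw
    have h2 : w⁻¹ * (s⁻¹ * w * s) = w⁻¹ * (cm s⁻¹ w) * w := by unfold cm; group
    rw [h2]
    have := conj_mem_of_le (h0.S_le.trans h0.N_V) (inv_mem hw.1) h1
    rwa [inv_inv] at this
  apply h0.mem_sup
  · exact mul_mem (mul_mem (mul_mem hc hsN) (inv_mem hc)) (inv_mem hsN)
  · intro d hd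
    -- `x = [c, s]`; `x y x⁻¹ y⁻¹ ∈ F0` for `y ∈ Db`; write `y = (s c) d' (s c)⁻¹`
    set d' := (s * c)⁻¹ * d * (s * c) with hd'
    have hscN : s * c ∈ normalizer ((Db co : Subgroup G) : Set G) := mul_mem hsN hc
    have hd'D : d' ∈ Db co := by
      have := hN_conj (inv_mem hscN) hd
      rwa [inv_inv] at this
    have hdd : d = s * (c * d' * c⁻¹) * s⁻¹ := by rw [hd']; group
    have hx : cm (cm c s) d = (c * (s * d' * s⁻¹) * c⁻¹) * (s * (c * d' * c⁻¹) * s⁻¹)⁻¹ := by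
      rw [← hdd, hd']; unfold cm; group
    set d1 := c * (s * d' * s⁻¹) * c⁻¹ with hd1
    set d2 := s * (c * d' * c⁻¹) * s⁻¹ with hd2
    have hd1D : d1 ∈ Db co := hN_conj hc (hN_conj hsN hd'D)
    have hd2D : d2 ∈ Db co := hN_conj hsN (hN_conj hc hd'D)
    rw [hx]
    apply mem_F0_of_cm_eq_one (mul_mem hd1D (inv_mem hd2D)).1
    intro w hw
    have hkey : cm d1 w = cm d2 w := by
      -- both are equal to `s [d', c⁻¹ w c] s⁻¹`
      have e1 : cm d1 w = s * cm d' (c⁻¹ * w * c) * s⁻¹ := by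
        have h1 : cm d1 w = c * cm (s * d' * s⁻¹) (c⁻¹ * w * c) * c⁻¹ := by rw [hd1]; unfold cm; group
        rw [h1, hcc (cm_mem_E2 (hN_conj hsN hd'D).1 (hcw hw))]
        obtain ⟨v, hv, hvs⟩ := hsw (hcw hw)
        have h2 : cm (s * d' * s⁻¹) (c⁻¹ * w * c) = s * cm d' (s⁻¹ * (c⁻¹ * w * c) * s) * s⁻¹ := by
          unfold cm; group
        rw [h2, hvs, inv2 hd'D (hcw hw) hv]
      have e2 : cm d2 w = s * cm d' (c⁻¹ * w * c) * s⁻¹ := by
        obtain ⟨v, hv, hvs⟩ := hsw hw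
        have h1 : cm d2 w = s * cm (c * d' * c⁻¹) (s⁻¹ * w * s) * s⁻¹ := by rw [hd2]; unfold cm; group
        have h2 : cm (c * d' * c⁻¹) w = c * cm d' (c⁻¹ * w * c) * c⁻¹ := by unfold cm; group
        rw [h1, hvs, inv2 (hN_conj hc hd'D) hw hv, h2, hcc (cm_mem_E2 hd'D.1 (hcw hw))]
      rw [e1, e2]
    have h3 : cm (d1 * d2⁻¹ * d2) w = cm (d1 * d2⁻¹) w * cm d2 w :=
      hom (mul_mem hd1D (inv_mem hd2D)) hd2D hw
    rw [inv_mul_cancel_right, hkey] at h3
    exact mul_eq_right.1 h3.symm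
  · intro v hv
    have hsv : s⁻¹ * v * s ∈ E2 co := by
      have := conj_mem_of_le (h0.S_le.trans h0.N_V) (inv_mem hs) hv
      rwa [inv_inv] at this
    rw [cm_eq_one]
    have h1 : cm c s * v * (cm c s)⁻¹ = v := by
      have e : cm c s * v * (cm c s)⁻¹ = c * (s * (c⁻¹ * (s⁻¹ * v * s) * c) * s⁻¹) * c⁻¹ := by
        unfold cm; group
      have h2 : c⁻¹ * (s⁻¹ * v * s) * c = s⁻¹ * v * s := by
        have h3 := hcc hsv
        calc c⁻¹ * (s⁻¹ * v * s) * c = c⁻¹ * (c * (s⁻¹ * v * s) * c⁻¹) * c := by rw [h3]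
          _ = _ := by group
      have h4 : s * (s⁻¹ * v * s) * s⁻¹ = v := by group
      rw [e, h2, h4, hcc hv]
    exact mul_inv_eq_iff_eq_mul.1 h1

/-- `L₂` is generated by two Sylow subgroups modulo `Db C(Db)` -/
theorem gen (hT : DatT C) (h2 : Nat.card F = 2) {n : G} (hn : n ∈ normalizer ((Db co : Subgroup G) : Set G))
    (hnZ : n ∉ normalizer ((Z co : Subgroup G) : Set G)) :
    L2 S co ≤ ((S : Subgroup G) ⊔ (S : Subgroup G).map (MulAut.conj n).toMonoidHom) ⊔
      centralizer ((Db co : Subgroup G) : Set G) := by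
  set M := (S : Subgroup G) ⊔ (S : Subgroup G).map (MulAut.conj n).toMonoidHom with hM
  have h0 := cen0 hT co
  obtain ⟨z, hz, hz1⟩ := exists_Z co
  obtain ⟨t, ht, -, ht6, -⟩ := exists_t co
  have hSM : (S : Subgroup G) ≤ M := le_sup_left
  have hMN : M ≤ normalizer ((Db co : Subgroup G) : Set G) := by
    refine sup_le h0.S_le ?_
    rintro _ ⟨x, hx, rfl⟩
    exact mul_mem (mul_mem hn (h0.S_le hx)) (inv_mem hn)
  have hcN : centralizer ((Db co : Subgroup G) : Set G) ≤ normalizer ((Db co : Subgroup G) : Set G) :=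
    centralizer_le_normalizer _
  -- every element of `N` is a product of an element of `M` and an element centralising `V`
  have hfac : ∀ m ∈ normalizer ((Db co : Subgroup G) : Set G), ∃ w ∈ M, ∀ v ∈ E2 co, cm (w * m) v = 1 := by
    intro m hm
    have hmz : m * z * m⁻¹ ∈ E2 co := conj_mem_of_le h0.N_V hm (Z_le_E2 hz)
    have hmz1 : m * z * m⁻¹ ≠ 1 := by
      intro h; apply hz1
      have : z = m⁻¹ * (m * z * m⁻¹) * m := by group
      rw [this, h]; group
    obtain ⟨l, hl, hlz⟩ := trans' (S := S) (co := co) h2 hn hnZ hz hz1 hmz hmz1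
    have hlN := hMN hl
    -- `l m` fixes `z`
    have hlm : (l * m) * z * (l * m)⁻¹ = z := by
      calc (l * m) * z * (l * m)⁻¹ = l * (m * z * m⁻¹) * l⁻¹ := by group
        _ = z := hlz
    have hlmN : l * m ∈ normalizer ((Db co : Subgroup G) : Set G) := mul_mem hlN hm
    -- an element of `V` outside `Z`
    set c := n * z * n⁻¹ with hc
    have hcE : c ∈ E2 co := conj_mem_of_le h0.N_V hn (Z_le_E2 hz)
    have hcZ : c ∉ Z co := fun h => hnZ (mem_normalizer_Z h2 hz hz1 h)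
    -- an element of `N` which fixes `z` and `c` centralises `V`
    have hfix : ∀ g : G, g * z * g⁻¹ = z → g * c * g⁻¹ = c → ∀ v ∈ E2 co, cm g v = 1 := by
      intro g hgz hgc v hv
      have hgz' : cm g z = 1 := by rw [cm_eq_one]; exact mul_inv_eq_iff_eq_mul.1 hgz
      by_cases hvZ : v ∈ Z co
      · by_cases hv1 : v = 1
        · rw [hv1]; unfold cm; group
        · rw [eq_of_mem_Z h2 hvZ hv1 hz hz1]; exact hgz'
      · have h3 := mul_mem_Z_of_E2 h2 hcE hcZ hv hvZ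
        rw [cm_eq_one]
        apply mul_inv_eq_iff_eq_mul.1
        by_cases h4 : v * c⁻¹ = 1
        · rw [mul_inv_eq_one.1 h4]; exact hgc
        · have h5 : v = z * c := by rw [← eq_of_mem_Z h2 h3 h4 hz hz1]; group
          calc g * v * g⁻¹ = (g * z * g⁻¹) * (g * c * g⁻¹) := by rw [h5]; group
            _ = v := by rw [hgz, hgc, h5]
    have hlc : (l * m) * c * (l * m)⁻¹ ∈ E2 co := conj_mem_of_le h0.N_V hlmN hcE
    have hlcZ : (l * m) * c * (l * m)⁻¹ ∉ Z co := by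
      intro h
      by_cases h3 : (l * m) * c * (l * m)⁻¹ = 1
      · apply hcZ
        have : c = (l * m)⁻¹ * ((l * m) * c * (l * m)⁻¹) * (l * m) := by group
        rw [this, h3]; simp [one_mem]
      · have h4 := eq_of_mem_Z h2 h h3 hz hz1
        apply hcZ
        have : c = z := by
          calc c = (l * m)⁻¹ * ((l * m) * c * (l * m)⁻¹) * (l * m) := by group
            _ = (l * m)⁻¹ * ((l * m) * z * (l * m)⁻¹) * (l * m) := by rw [h4, hlm]
            _ = z := by group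
        rw [this]; exact hz
    by_cases h6 : (l * m) * c * (l * m)⁻¹ = c
    · exact ⟨l, hl, hfix (l * m) hlm h6⟩
    · refine ⟨t * l, mul_mem (hSM ht) hl, ?_⟩
      have htz : t * z * t⁻¹ = z := by rw [conj_eq_cm_mul, cm_Z ht hz, one_mul]
      have h7 := mul_mem_Z_of_E2 h2 hcE hcZ hlc hlcZ
      have h8 : (l * m) * c * (l * m)⁻¹ * c⁻¹ = z :=
        eq_of_mem_Z h2 h7 (fun h => h6 (mul_inv_eq_one.1 h)) hz hz1
      have h9 : (l * m) * c * (l * m)⁻¹ = z * c := by rw [← h8]; group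
      have htc : t * c * t⁻¹ = z * c := by rw [conj_eq_cm_mul, cm_t h2 ht ht6 hcE hcZ hz hz1]
      apply hfix
      · calc t * l * m * z * (t * l * m)⁻¹ = t * ((l * m) * z * (l * m)⁻¹) * t⁻¹ := by group
          _ = z := by rw [hlm, htz]
      · calc t * l * m * c * (t * l * m)⁻¹ = t * ((l * m) * c * (l * m)⁻¹) * t⁻¹ := by group
          _ = (t * z * t⁻¹) * (t * c * t⁻¹) := by rw [h9]; group
          _ = z * z * c := by rw [htz, htc, mul_assoc]
          _ = c := by rw [sq_F0 (E2_le_F0 (Z_le_E2 hz)), one_mul]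
  -- the generators
  rw [L2, conjClosure, closure_le]
  rintro _ ⟨m, hm, s, hs, rfl⟩
  obtain ⟨w, hw, hwm⟩ := hfac m hm
  set c := w * m with hcdef
  have hcN2 : c ∈ normalizer ((Db co : Subgroup G) : Set G) := mul_mem (hMN hw) hm
  have h3 := cm_mem hT hcN2 hwm hs
  have h4 : m * s * m⁻¹ = w⁻¹ * (cm c s * s) * w := by
    have : m = w⁻¹ * c := by rw [hcdef]; group
    rw [this]; unfold cm; group
  have h5 : Db co ⊔ centralizer ((Db co : Subgroup G) : Set G) ≤
      M ⊔ centralizer ((Db co : Subgroup G) : Set G) := sup_le_sup_right (Db_le.trans hSM) _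
  change m * s * m⁻¹ ∈ M ⊔ centralizer ((Db co : Subgroup G) : Set G)
  rw [h4]
  exact mul_mem (mul_mem (inv_mem (mem_sup_left hw)) (mul_mem (h5 h3) (mem_sup_left (hSM hs))))
    (mem_sup_left hw)

/-- **`Out2` for `|F| = 2`.** -/
theorem out2 [IsSimpleGroup G] (h1169 : H1169.{u}) (hT : DatT C) (h2 : Nat.card F = 2)
    (co : Coord C (S : Subgroup G)) : Out2 S co := by
  obtain ⟨n, hn, hnZ⟩ : ∃ n ∈ normalizer ((Db co : Subgroup G) : Set G),
      n ∉ normalizer ((Z co : Subgroup G) : Set G) := by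
    have := HexTwo.EssBoth.not_le_normalizer_Z h1169 hT co
    by_contra hcon
    push Not at hcon
    exact this hcon
  exact
    { ti := fun _ _ z hz hz1 h => mem_normalizer_Z h2 hz hz1 h
      ex := ⟨n, hn, hnZ⟩
      cover := fun m hm hmZ v hv => cover h2 hm hmZ hv
      trans := fun a ha ha1 b hb hb1 => trans h2 hn hnZ ha ha1 hb hb1
      inv := le_normalizer_F0_of_Db (co := co) hT le_rfl
      triv := fun l hl w hw => triv hT hl hw
      gen := fun m hm hmZ => gen hT h2 hm hmZ }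

end Cfsg.Agent.HexTwo.TwoGen
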